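import Cfsg.Agent.EqLemmas
import Cfsg.Agent.Lib.OddBaseTwo.Basic
import Cfsg.Agent.Lib.Frobenius.SolvableAut
import Mathlib.LinearAlgebra.Dimension.RankNullity
import Mathlib.LinearAlgebra.Dimension.DivisionRing
import Mathlib.Algebra.Module.ZMod
import Mathlib.FieldTheory.Finiteness
import Mathlib.Tactic

/-! Five orbits of triples with trivial common stabiliser from one. -/

set_option autoImplicit false
set_option linter.style.haveILetI false

namespace Cfsg.Agent.BaseThree

open OddBaseTwo (Inv)
open scoped commutatorElement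

/-- A triple whose common stabiliser is the kernel of the action. -/
def Reg (A : Type) {U : Type} [Group A] [AddCommGroup U] [DistribMulAction A U] (q : U × U × U) : Prop :=
  ∀ a : A, a • q.1 = q.1 → a • q.2.1 = q.2.1 → a • q.2.2 = q.2.2 → ∀ x : U, a • x = x

variable {p : ℕ} [Fact p.Prime]

/-- A transvection in dimension three. -/
def transv (i j : Fin 3) (hij : i ≠ j) (c : ZMod p) : (Fin 3 → ZMod p) ≃ₗ[ZMod p] (Fin 3 → ZMod p) where
  toFun v m := v m + if m = i then c * v j else 0
  map_add' v w := funext fun m => by simp only [Pi.add_apply]; split_ifs <;> ring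
  map_smul' t v := funext fun m => by simp only [Pi.smul_apply, smul_eq_mul, RingHom.id_apply]; split_ifs <;> ring
  invFun v m := v m + if m = i then -c * v j else 0
  left_inv v := funext fun m => by
    by_cases h : m = i
    · subst h; simp [Ne.symm hij]
    · simp [h]
  right_inv v := funext fun m => by
    by_cases h : m = i
    · subst h; simp [Ne.symm hij]
    · simp [h]

theorem transv_apply (i j : Fin 3) (hij : i ≠ j) (c : ZMod p) (v : Fin 3 → ZMod p) (m : Fin 3) :
    transv i j hij c v m = v m + if m = i then c * v j else 0 := rfl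

theorem transv_inv_apply (i j : Fin 3) (hij : i ≠ j) (c : ZMod p) (v : Fin 3 → ZMod p) (m : Fin 3) :
    (transv i j hij c)⁻¹ v m = v m + if m = i then -c * v j else 0 := rfl

theorem transv_commutator (i j k : Fin 3) (hij : i ≠ j) (hjk : j ≠ k) (hik : i ≠ k) :
    ⁅transv (p := p) i j hij 1, transv (p := p) j k hjk 1⁆ = transv (p := p) i k hik 1 := by
  refine LinearEquiv.ext fun v => funext fun m => ?_
  rw [commutatorElement_def]
  show transv i j hij 1 (transv j k hjk 1 ((transv i j hij 1)⁻¹ ((transv j k hjk 1)⁻¹ v))) m = _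
  simp only [transv_apply, transv_inv_apply, Ne.symm hij, Ne.symm hjk, Ne.symm hik, hij, hjk, hik, if_true, if_false]
  by_cases hmi : m = i
  · subst hmi
    simp [hij, hik]
    ring
  · by_cases hmj : m = j
    · subst hmj
      simp [Ne.symm hij]
    · simp [hmi, hmj]

theorem not_solvable_gl : ¬ Group.IsSolvable ((Fin 3 → ZMod p) ≃ₗ[ZMod p] (Fin 3 → ZMod p)) := by
  intro hs
  obtain ⟨n, hn⟩ := (Group.isSolvable_def _).1 hs
  have hmem : ∀ (n : ℕ) (i j : Fin 3) (hij : i ≠ j),
      transv (p := p) i j hij 1 ∈ derivedSeries ((Fin 3 → ZMod p) ≃ₗ[ZMod p] (Fin 3 → ZMod p)) n := by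
    intro n
    induction n with
    | zero => intro i j hij; trivial
    | succ n ih =>
      intro i j hij
      obtain ⟨k, hki, hkj⟩ : ∃ k : Fin 3, k ≠ i ∧ k ≠ j := by revert i j; decide
      rw [derivedSeries_succ, ← transv_commutator i k j (Ne.symm hki) hkj hij]
      exact Subgroup.commutator_mem_commutator (ih _ _ _) (ih _ _ _)
  have h := hmem n 0 1 (by decide)
  rw [hn, Subgroup.mem_bot] at h
  have := congrFun (LinearEquiv.congr_fun h ![0, 1, 0]) 0
  simp [transv_apply] at this

/-- A solvable subgroup of a non-solvable group has index at least five. -/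
theorem five_le_index {G : Type} [Group G] [Finite G] (hG : ¬ Group.IsSolvable G) (R : Subgroup G)
    [Group.IsSolvable R] : 5 ≤ R.index := by
  by_contra hlt
  refine hG ?_
  haveI : Group.IsSolvable (Equiv.Perm (G ⧸ R)) :=
    Frobenius.isSolvable_perm_of_card_le (by rw [← Subgroup.index_eq_card]; omega)
  let φ : G →* Equiv.Perm (G ⧸ R) := MulAction.toPermHom G (G ⧸ R)
  have hker : φ.ker ≤ R := by
    intro g hg
    have h1 : (g : G) • ((1 : G) : G ⧸ R) = ((1 : G) : G ⧸ R) :=
      congrArg (fun f : Equiv.Perm (G ⧸ R) => f ((1 : G) : G ⧸ R)) (MonoidHom.mem_ker.1 hg)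
    rw [MulAction.Quotient.smul_mk, QuotientGroup.eq, smul_eq_mul, mul_one, mul_one] at h1
    exact inv_mem_iff.1 h1
  haveI : Group.IsSolvable φ.ker :=
    Group.isSolvable_of_isSolvable_injective (f := Subgroup.inclusion hker) (Subgroup.inclusion_injective hker)
  exact Group.isSolvable_of_ker_le_range φ.ker.subtype φ (by rw [Subgroup.range_subtype])

variable {A U : Type} [Group A] [Finite A] [AddCommGroup U] [Finite U] [DistribMulAction A U] [Module (ZMod p) U]

omit [Finite U] [Finite A] in
theorem smul_lin (a : A) (c : ZMod p) (x : U) : a • c • x = c • a • x :=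
  ((DistribSMul.toAddMonoidHom U a).toZModLinearMap p).map_smul c x

/-- Five classes from three independent vectors. -/
theorem classes_of_injective [Group.IsSolvable A] (L : (Fin 3 → ZMod p) →ₗ[ZMod p] U) (hL : Function.Injective L)
    (hreg : ∀ a : A, (∀ x, a • L x = L x) → ∀ x : U, a • x = x) :
    ∃ Q : Fin 5 → U × U × U, (∀ i, Reg A (Q i)) ∧ ∀ (a : A) (i k : Fin 5),
      a • (Q i).1 = (Q k).1 → a • (Q i).2.1 = (Q k).2.1 → a • (Q i).2.2 = (Q k).2.2 → i = k := by
  classical
  let G3 := (Fin 3 → ZMod p) ≃ₗ[ZMod p] (Fin 3 → ZMod p)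
  haveI : Finite G3 := Finite.of_injective (fun f : G3 => (f : (Fin 3 → ZMod p) → (Fin 3 → ZMod p)))
    DFunLike.coe_injective
  let H : Subgroup A :=
    { carrier := {a | ∃ r : G3, ∀ x, a • L x = L (r x)}
      one_mem' := ⟨1, fun x => one_smul A _⟩
      mul_mem' := fun {a b} ⟨r, hr⟩ ⟨s, hs⟩ => ⟨r * s, fun x => by rw [mul_smul, hs, hr]; rfl⟩
      inv_mem' := fun {a} ⟨r, hr⟩ => ⟨r⁻¹, fun x => by
        rw [inv_smul_eq_iff, hr]; exact congrArg L (r.apply_symm_apply x).symm⟩ }
  have hex : ∀ a : H, ∃ r : G3, ∀ x, (a : A) • L x = L (r x) := fun a => a.2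
  choose ρ hρ using hex
  let φ : H →* G3 :=
    { toFun := ρ
      map_one' := LinearEquiv.ext fun x => hL (by rw [← hρ, OneMemClass.coe_one, one_smul]; rfl)
      map_mul' := fun a b => LinearEquiv.ext fun x => hL (by
        rw [← hρ, Subgroup.coe_mul, mul_smul, hρ, hρ]; rfl) }
  haveI : Group.IsSolvable φ.range := Group.isSolvable_of_surjective φ.rangeRestrict_surjective
  have h5 := five_le_index not_solvable_gl φ.range
  rw [Subgroup.index_eq_card] at h5
  haveI := Fintype.ofFinite (G3 ⧸ φ.range)
  obtain ⟨e⟩ := Function.Embedding.nonempty_of_card_le (α := Fin 5) (β := G3 ⧸ φ.range)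
    (by rw [Fintype.card_fin, ← Nat.card_eq_fintype_card]; exact h5)
  let M : Fin 5 → G3 := fun i => (e i).out⁻¹
  let ε : Fin 3 → (Fin 3 → ZMod p) := fun t => Pi.single t 1
  refine ⟨fun i => (L (M i (ε 0)), L (M i (ε 1)), L (M i (ε 2))), fun i a h0 h1 h2 => hreg a fun x => ?_,
    fun a i k h0 h1 h2 => ?_⟩
  · obtain ⟨y, rfl⟩ := (M i).surjective x
    rw [← Finset.univ_sum_single y]
    simp only [map_sum, Finset.smul_sum]
    refine Finset.sum_congr rfl fun t _ => ?_
    have ht : (Pi.single t (y t) : Fin 3 → ZMod p) = y t • ε t := by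
      simp only [ε, ← Pi.single_smul, smul_eq_mul, mul_one]
    rw [ht, map_smul, map_smul, smul_lin]
    congr 1
    fin_cases t
    · exact h0
    · exact h1
    · exact h2
  · have hmove : ∀ x, a • L x = L ((M k * (M i)⁻¹) x) := by
      intro x
      obtain ⟨y, rfl⟩ := (M i).surjective x
      show a • L (M i y) = L (M k ((M i).symm (M i y)))
      rw [LinearEquiv.symm_apply_apply, ← Finset.univ_sum_single y]
      simp only [map_sum, Finset.smul_sum]
      refine Finset.sum_congr rfl fun t _ => ?_
      have ht : (Pi.single t (y t) : Fin 3 → ZMod p) = y t • ε t := by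
        simp only [ε, ← Pi.single_smul, smul_eq_mul, mul_one]
      rw [ht, map_smul, map_smul, map_smul, map_smul, smul_lin]
      congr 1
      fin_cases t
      · exact h0
      · exact h1
      · exact h2
    have hmem : M k * (M i)⁻¹ ∈ φ.range := ⟨⟨a, _, hmove⟩, LinearEquiv.ext fun x => hL ((hρ _ x).symm.trans (hmove x))⟩
    simp only [M, inv_inv] at hmem
    refine (e.injective ?_).symm
    rw [← (e k).out_eq, ← (e i).out_eq]
    exact QuotientGroup.eq.2 hmem

/-- Five classes. -/
theorem five_classes {A U : Type} [Group A] [Finite A] [AddCommGroup U] [Finite U] [DistribMulAction A U] (p : ℕ) [Fact p.Prime] [Module (ZMod p) U] [Group.IsSolvable A] [Nontrivial U] {q : U × U × U} (hq : Reg A q) :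
    ∃ Q : Fin 5 → U × U × U, (∀ i, Reg A (Q i)) ∧ ∀ (a : A) (i k : Fin 5),
      a • (Q i).1 = (Q k).1 → a • (Q i).2.1 = (Q k).2.1 → a • (Q i).2.2 = (Q k).2.2 → i = k := by
  classical
  haveI : Module.Finite (ZMod p) U := Module.Finite.of_finite
  have hfix : ∀ (a : A) {ι : Type} (w : ι → U), (∀ i, a • w i = w i) → ∀ x ∈ Submodule.span (ZMod p) (Set.range w), a • x = x := by
    intro a ι w hw x hx
    induction hx using Submodule.span_induction with
    | mem y hy => obtain ⟨i, rfl⟩ := hy; exact hw i
    | zero => exact smul_zero a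
    | add y z _ _ hy hz => rw [smul_add, hy, hz]
    | smul c y _ hy => rw [smul_lin, hy]
  rcases (show Module.finrank (ZMod p) U ≤ 2 ∨ 3 ≤ Module.finrank (ZMod p) U by omega) with hd | hd
  · let b := Module.finBasis (ZMod p) U
    have hd0 : 0 < Module.finrank (ZMod p) U := Module.finrank_pos
    have hb : ∀ a : A, (∀ i, a • b i = b i) → ∀ x, a • x = x :=
      fun a h x => hfix a b h x (by rw [b.span_eq]; exact Submodule.mem_top)
    rcases (show Module.finrank (ZMod p) U = 1 ∨ Module.finrank (ZMod p) U = 2 by omega) with hd1 | hd2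
    · let u := b ⟨0, hd0⟩
      have hu0 : u ≠ 0 := b.ne_zero _
      have hu : ∀ a : A, a • u = u → ∀ x, a • x = x := fun a h => hb a fun i => by
        rw [show i = ⟨0, hd0⟩ from Fin.ext (by have := i.isLt; omega)]; exact h
      refine ⟨![(u, 0, 0), (u, u, 0), (u, 0, u), (u, u, u), (0, u, 0)], fun i a h0 h1 h2 => ?_, fun a i k h0 h1 h2 => ?_⟩
      · fin_cases i
        · exact hu a h0
        · exact hu a h0
        · exact hu a h0
        · exact hu a h0
        · exact hu a h1
      · have hne : ∀ y : U, y ≠ 0 → a • y ≠ 0 := fun y hy e => hy ((smul_eq_zero_iff_eq a).1 e)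
        fin_cases i <;> fin_cases k <;> simp [hu0, Ne.symm hu0, hne u hu0] at h0 h1 h2 ⊢
    · let u := b ⟨0, hd0⟩
      let w := b ⟨1, by omega⟩
      have hu0 : u ≠ 0 := b.ne_zero _
      have hw0 : w ≠ 0 := b.ne_zero _
      have huw : u ≠ w := fun e => by
        have := congrArg Fin.val (b.injective e)
        simp at this
      have hsum : u + w ≠ 0 ∧ u + w ≠ u ∧ u + w ≠ w := by
        refine ⟨fun e => ?_, fun e => hw0 (add_eq_left.1 e), fun e => hu0 (add_eq_right.1 e)⟩
        have := congrArg (fun x => b.repr x ⟨0, hd0⟩) e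
        simp [u, w] at this
      have hu : ∀ a : A, a • u = u → a • w = w → ∀ x, a • x = x := fun a h h' => hb a fun i => by
        rcases (show (i : ℕ) = 0 ∨ (i : ℕ) = 1 by have := i.isLt; omega) with e | e
        · rw [show i = ⟨0, hd0⟩ from Fin.ext e]; exact h
        · rw [show i = ⟨1, by omega⟩ from Fin.ext e]; exact h'
      refine ⟨![(u, w, 0), (u, w, u), (u, w, w), (u, w, u + w), (0, u, w)], fun i a h0 h1 h2 => ?_, fun a i k h0 h1 h2 => ?_⟩
      · fin_cases i
        · exact hu a h0 h1
        · exact hu a h0 h1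
        · exact hu a h0 h1
        · exact hu a h0 h1
        · exact hu a h1 h2
      · have hne : ∀ y : U, y ≠ 0 → a • y ≠ 0 := fun y hy e => hy ((smul_eq_zero_iff_eq a).1 e)
        obtain ⟨s0, s1, s2⟩ := hsum
        by_cases hfx : a • u = u ∧ a • w = w
        · have := hu a hfx.1 hfx.2
          fin_cases i <;> fin_cases k <;>
            simp [this, hu0, hw0, Ne.symm hu0, Ne.symm hw0, huw, Ne.symm huw, s0, s1, s2, Ne.symm s0, Ne.symm s1,
              Ne.symm s2] at h0 h1 h2 ⊢
        · fin_cases i <;> fin_cases k <;>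
            simp [hne u hu0, Ne.symm hu0, hu0] at h0 h1 h2 ⊢
          all_goals exact absurd ⟨h0, h1⟩ hfx
  · -- three independent vectors whose span contains the triple
    let S : Submodule (ZMod p) U := Submodule.span (ZMod p) (Set.range ![q.1, q.2.1, q.2.2])
    have hS : Module.finrank (ZMod p) S ≤ 3 := (finrank_range_le_card _).trans (by simp)
    let bS := Module.finBasis (ZMod p) S
    have hext : ∀ m, Module.finrank (ZMod p) S ≤ m → m ≤ 3 → ∃ w : Fin m → U, LinearIndependent (ZMod p) w ∧
        S ≤ Submodule.span (ZMod p) (Set.range w) := by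
      intro m
      induction m with
      | zero =>
        intro h _
        refine ⟨![], linearIndependent_empty_type, ?_⟩
        rw [Submodule.finrank_eq_zero.1 (Nat.le_zero.1 h)]
        exact bot_le
      | succ m ih =>
        intro h hm
        rcases Nat.lt_or_eq_of_le h with hlt | heq
        · obtain ⟨w, hw, hle⟩ := ih (by omega) (by omega)
          obtain ⟨x, hx⟩ := exists_linearIndependent_snoc_of_lt_finrank hw (by omega)
          refine ⟨_, hx, hle.trans (Submodule.span_mono ?_)⟩
          rintro _ ⟨i, rfl⟩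
          exact ⟨i.castSucc, by simp⟩
        · let bS' := bS.reindex (finCongr heq)
          refine ⟨fun i => (bS' i : U), bS'.linearIndependent.map' S.subtype (Submodule.ker_subtype S), ?_⟩
          intro x hx
          have := congrArg Subtype.val (bS'.sum_repr ⟨x, hx⟩)
          refine Eq.subst (motive := fun z => z ∈ Submodule.span (ZMod p) _) this ?_
          rw [AddSubmonoidClass.coe_finset_sum]
          exact Submodule.sum_mem _ fun i _ => Submodule.smul_mem _ _ (Submodule.subset_span ⟨i, rfl⟩)
    obtain ⟨w, hw, hle⟩ := hext 3 hS le_rfl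
    refine classes_of_injective (Fintype.linearCombination (ZMod p) w) ?_ fun a ha => ?_
    · rw [← LinearMap.ker_eq_bot]
      refine LinearMap.ker_eq_bot'.2 fun c hc => funext fun i => ?_
      rw [Fintype.linearCombination_apply] at hc
      exact Fintype.linearIndependent_iff.1 hw c hc i
    · have hw' : ∀ i, a • w i = w i := fun i => by
        have h := ha (Pi.single i 1)
        rwa [Fintype.linearCombination_apply_single, one_smul] at h
      have hall := fun x (hx : x ∈ S) => hfix a w hw' x (hle hx)
      exact hq a (hall _ (Submodule.subset_span ⟨0, rfl⟩)) (hall _ (Submodule.subset_span ⟨1, rfl⟩))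
        (hall _ (Submodule.subset_span ⟨2, rfl⟩))

end Cfsg.Agent.BaseThree
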