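import Cfsg.Agent.Lib.BaseTwo.Colour

/-! Five colours for primitive solvable groups. -/

set_option autoImplicit false
set_option linter.style.haveILetI false

namespace Cfsg.Agent.BaseThree

open Cfsg.Agent.BaseTwo OddBaseTwo

/-- Five colours for a linear group. -/
theorem five_aux {U W : Type} [Group U] [AddCommGroup W] [Finite W] [DistribMulAction U W] [FaithfulSMul U W]
    (r : ℕ) [Fact r.Prime] [Module (ZMod r) W] :
    ∃ f : W → ℕ, (∀ x, f x < 5) ∧ (∀ x, f x = 0 ↔ x = 0) ∧ ∀ u : U, (∀ x, f (u • x) = f x) → u = 1 := by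
  haveI : Module.Finite (ZMod r) W := Module.Finite.of_finite
  let a := Module.finrank (ZMod r) W
  let b : Module.Basis (Fin a) (ZMod r) W := Module.finBasis (ZMod r) W
  obtain ⟨f, h1, h2, h3⟩ := colour_five b
  exact ⟨f, h1, h2, fun u hu => eq_one_of_smul_eq (V := W) (h3 (DistribMulAction.toAddEquiv W u) hu)⟩

/-- A primitive solvable group has five colours with trivial stabiliser. -/
theorem exists_five {P Ω : Type} [Group P] [Finite P] [Group.IsSolvable P] [MulAction P Ω] [Finite Ω]
    [FaithfulSMul P Ω] [Nontrivial Ω] (hprim : MulAction.IsPreprimitive P Ω) :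
    ∃ c : Ω → Fin 5, ∀ g : P, (∀ x, c (g • x) = c x) → g = 1 := by
  classical
  have hP1 : (⊤ : Subgroup P) ≠ ⊥ := by
    intro e
    obtain ⟨x, y, hxy⟩ := exists_pair_ne Ω
    obtain ⟨g, hg⟩ := MulAction.exists_smul_eq P x y
    have : g = 1 := Subgroup.mem_bot.1 (e ▸ Subgroup.mem_top g)
    exact hxy (by rw [← hg, this, one_smul])
  haveI : Group.IsSolvable (⊤ : Subgroup P) := inferInstance
  obtain ⟨r, hr, M, hMn, hM0, -, hMc, hMr, hMexp, hmin⟩ := Solvable.exists_minimal_normal_pGroup hP1
  haveI := hMn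
  haveI := Fact.mk hr
  obtain ⟨ω⟩ := (inferInstance : Nonempty Ω)
  have h548 := S0548.result hprim M hM0 hmin ω
  set U := MulAction.stabilizer P ω with hU
  have hMcomm : ∀ a ∈ M, ∀ b ∈ M, a * b = b * a := fun a ha b hb =>
    congrArg Subtype.val (hMc.is_comm.comm (⟨a, ha⟩ : M) ⟨b, hb⟩)
  have hbij : Function.Bijective fun m : M => (m : P) • ω := by
    refine ⟨fun m m' h => ?_, fun y => ?_⟩
    · have h1 : ((m'⁻¹ * m : M) : P) ∈ M ⊓ U :=
        ⟨(m'⁻¹ * m).2, show ((m'⁻¹ * m : M) : P) • ω = ω by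
          rw [Subgroup.coe_mul, Subgroup.coe_inv, mul_smul, show (m : P) • ω = (m' : P) • ω from h, inv_smul_smul]⟩
      rw [h548.1.disjoint.eq_bot, Subgroup.mem_bot] at h1
      exact (inv_mul_eq_one.1 (Subtype.ext h1 : m'⁻¹ * m = 1)).symm
    · obtain ⟨g, rfl⟩ := MulAction.exists_smul_eq P ω y
      obtain ⟨⟨m, u⟩, hmu⟩ := h548.1.2 g
      exact ⟨m, by simp only at hmu ⊢; rw [← hmu, mul_smul, MulAction.mem_stabilizer_iff.mp u.2]⟩
  letI : CommGroup M := { (inferInstance : Group M) with mul_comm := fun a b => Subtype.ext (hMcomm a a.2 b b.2) }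
  letI actU : DistribMulAction U (Additive M) :=
    { smul := fun u x => Additive.ofMul ((MulAut.conjNormal (H := M) (u : P)) x.toMul)
      one_smul := fun x => by
        show Additive.ofMul ((MulAut.conjNormal (H := M) ((1 : U) : P)) x.toMul) = x
        rw [OneMemClass.coe_one, map_one]; rfl
      mul_smul := fun u v x => by
        show Additive.ofMul ((MulAut.conjNormal (H := M) ((u * v : U) : P)) x.toMul) = _
        rw [Subgroup.coe_mul, map_mul]; rfl
      smul_zero := fun u => by
        show Additive.ofMul ((MulAut.conjNormal (H := M) (u : P)) 1) = 0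
        rw [map_one]; rfl
      smul_add := fun u x y => by
        show Additive.ofMul ((MulAut.conjNormal (H := M) (u : P)) (x.toMul * y.toMul)) = _
        rw [map_mul]; rfl }
  have hsmul : ∀ (u : U) (x : Additive M), (((u • x).toMul : M) : P) = (u : P) * (x.toMul : M) * (u : P)⁻¹ :=
    fun u x => MulAut.conjNormal_apply _ _
  have hfaith : ∀ u : U, (∀ x : Additive M, u • x = x) → u = 1 := by
    intro u hu
    have : (u : P) ∈ MulAction.stabilizer P ω ⊓ Subgroup.centralizer (M : Set P) := by
      refine ⟨u.2, Subgroup.mem_centralizer_iff.2 fun m hm => ?_⟩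
      have := congrArg (fun x : Additive M => ((x.toMul : M) : P)) (hu (Additive.ofMul ⟨m, hm⟩))
      simp only [hsmul] at this
      exact (mul_inv_eq_iff_eq_mul.1 this).symm
    rw [h548.2.1, Subgroup.mem_bot] at this
    exact Subtype.ext this
  haveI : FaithfulSMul U (Additive M) :=
    ⟨fun {u v} h => (inv_mul_eq_one.1 (hfaith (v⁻¹ * u) fun x => by rw [mul_smul, h, inv_smul_smul])).symm⟩
  have hirr : Irr U (Additive M) := by
    intro T hT
    let K : Subgroup P := (AddSubgroup.toSubgroup' T).map M.subtype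
    have hKM : K ≤ M := Subgroup.map_subtype_le _
    have hnorm : MulAction.stabilizer P ω ≤ Subgroup.normalizer (K : Set P) := by
      intro u hu
      refine Subgroup.mem_normalizer_fintype ?_
      rintro _ ⟨m, hm, rfl⟩
      exact ⟨((⟨u, hu⟩ : U) • Additive.ofMul m).toMul, hT ⟨u, hu⟩ _ hm, hsmul ⟨u, hu⟩ _⟩
    rcases h548.2.2 K hKM hnorm with hb | ht
    · left
      refine (AddSubgroup.eq_bot_iff_forall _).2 fun x hx => ?_
      have : ((x.toMul : M) : P) ∈ K := ⟨x.toMul, hx, rfl⟩
      rw [hb, Subgroup.mem_bot] at this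
      exact Additive.toMul.injective (Subtype.ext this)
    · right
      refine eq_top_iff.2 fun x _ => ?_
      have : ((x.toMul : M) : P) ∈ K := by rw [ht]; exact x.toMul.2
      obtain ⟨m, hm, he⟩ := this
      have he' : m = x.toMul := Subtype.ext he
      rw [he'] at hm
      exact hm
  haveI : Nontrivial (Additive M) := by
    haveI : Nontrivial M := (Subgroup.nontrivial_iff_ne_bot M).2 hM0
    exact inferInstanceAs (Nontrivial (Additive M))
  letI : Module (ZMod r) (Additive M) := AddCommGroup.zmodModule fun x => by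
    apply Additive.toMul.injective
    apply Subtype.ext
    rw [toMul_nsmul, SubmonoidClass.coe_pow]
    exact hMexp _ x.toMul.2
  obtain ⟨f, hfp, hf0, hf⟩ := five_aux r (U := U) (W := Additive M)
  let e : M ≃ Ω := Equiv.ofBijective _ hbij
  refine ⟨fun x => (⟨f (Additive.ofMul (e.symm x)), hfp _⟩ : Fin 5), fun g hg => ?_⟩
  have hval : ∀ x, f (Additive.ofMul (e.symm (g • x))) = f (Additive.ofMul (e.symm x)) := fun x => by
    exact congrArg Fin.val (hg x)
  have he1 : e.symm ω = 1 := e.symm_apply_eq.2 (show ω = (((1 : M) : P)) • ω by rw [OneMemClass.coe_one, one_smul])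
  have hgω : g • ω = ω := by
    have h := hval ω
    rw [he1, show Additive.ofMul (1 : M) = 0 from rfl, (hf0 0).2 rfl, hf0] at h
    have h' : e.symm (g • ω) = 1 := h
    exact (e.symm.injective (h'.trans he1.symm))
  have hu : (⟨g, hgω⟩ : U) = 1 := by
    refine hf _ fun x => ?_
    obtain ⟨y, rfl⟩ : ∃ y, Additive.ofMul (e.symm y) = x := ⟨e x.toMul, by rw [e.symm_apply_apply]; rfl⟩
    rw [← hval y]
    congr 1
    refine congrArg Additive.ofMul ((e.eq_symm_apply).2 ?_)
    show ((((⟨g, hgω⟩ : U) • Additive.ofMul (e.symm y)).toMul : M) : P) • ω = g • y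
    rw [hsmul]
    show (g * ((e.symm y : M) : P) * g⁻¹) • ω = g • y
    rw [mul_smul, inv_smul_eq_iff.2 hgω.symm, mul_smul]
    exact congrArg (g • ·) (e.apply_symm_apply y)
  exact congrArg Subtype.val hu

end Cfsg.Agent.BaseThree
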