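import Cfsg.Agent.Lib.BaseTwo.Bases
import Cfsg.Agent.Lib.BaseTwo.Large

/-! Three vectors for the groups of Heisenberg type in characteristic two. -/

set_option autoImplicit false
set_option linter.style.haveILetI false

namespace Cfsg.Agent.BaseThree

open Cfsg.Agent.BaseTwo

variable {E W : Type} [Field E] [AddCommGroup W] [Module E W] [Nontrivial W] {n : ℕ} {S : Sys E W n}
  {r : ℕ} {l v : W ≃ₗ[E] W} {ζ ν : Eˣ}

/-- A vector moved by all non-trivial elements. -/
def Free (S : Sys E W n) (x : W) : Prop := x ≠ 0 ∧ ∀ m ∈ S.grp, m x = x → m = 1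

/-- The vectors handed down: either two or three whose fixing semilinear normalisers are linear and centralise. -/
structure Triple (S : Sys E W n) (A B C : W) : Prop where
  freeA : Free S A
  freeB : Free S B
  ne : C ≠ 0
  sep : (∀ c : E, C ≠ c • A) ∨ ∀ g : W ≃+ W, Nor S g → g A = A → g B = B → Fix S g A
  key : ∀ g : W ≃+ W, Nor S g → g A = A → g B = B → g C = C → Fix S g A

/-- The first vectors over a group of scalars. -/
theorem triple_trivial [Finite E] (ht : S.Trivial) {x : W} (hx : x ≠ 0) : ∃ B, Triple S x B x := by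
  obtain ⟨γ, hγ⟩ := exists_generator (E := E)
  have hfree : ∀ u : W, u ≠ 0 → Free S u := fun u hu => ⟨hu, fun m hm he => by
    obtain ⟨c, rfl⟩ := ht m hm
    rw [sc_eq_one hu he, map_one]⟩
  have hkey : ∀ g : W ≃+ W, Nor S g → g x = x → g ((γ : E) • x) = (γ : E) • x → Fix S g x := fun g hg h1 h2 =>
    (pre_trivial ht hx γ.ne_zero (generator_rigid hγ)).key g hg h1 h2 ⟨1, one_mem _, h1⟩
  exact ⟨(γ : E) • x,
    { freeA := hfree x hx, freeB := hfree _ (smul_ne_zero γ.ne_zero hx), ne := hx, sep := Or.inr hkey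
      key := fun g hg h1 h2 _ => hkey g hg h1 h2 }⟩

/-- An element fixing a free vector of the smaller system. -/
theorem line_one (h : Split S r l v ζ ν) {x : P0 l} (hx : Free h.sys x) {m : W ≃ₗ[E] W} (hm : m ∈ S.grp)
    (he : m (x : W) = (x : W)) : ∃ k : ℕ, k < r ∧ m = l ^ k := by
  have hx0 : (x : W) ≠ 0 := fun e => hx.1 (Subtype.ext e)
  obtain ⟨j, hj, δ, hδ, rfl⟩ := h.decompose hm
  rw [app_mul] at he
  have h1 := h.apply_pow j (Cent.apply_mem hδ x.2)
  rw [he, mem_P0.1 x.2] at h1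
  have h2 : ((ζ⁻¹ ^ j : Eˣ) : E) = 1 := smul_left_injective E hx0 (h1.symm.trans (one_smul E _).symm)
  have hj0 : j = 0 := h.hζ.inv.pow_inj hj h.hr.pos ((Units.ext h2).trans (pow_zero _).symm)
  subst hj0
  rw [pow_zero, app_one] at he
  have hres := hx.2 _ (h.mem_sys hδ) (Subtype.ext he)
  obtain ⟨s, k, hk, e, hs⟩ := h.of_scalar hx0 x.2 hδ (c := 1) fun u hu => by
    rw [one_smul]
    exact congrArg (fun f : P0 l ≃ₗ[E] P0 l => ((f ⟨u, hu⟩ : P0 l) : W)) hres
  exact ⟨k, hk, by rw [pow_zero, one_mul, e, show s = 1 from Units.ext hs, map_one, one_mul]⟩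

/-- The vectors with three slots. -/
def three (v : W ≃ₗ[E] W) (a b c : W) : W := a + v b + v (v c)

omit [Nontrivial W] in
theorem apply_two (h : Split S r l v ζ ν) (k : ℕ) {u : W} (hu : u ∈ P0 l) :
    (l ^ k) (v u) = ((ζ⁻¹ ^ k : Eˣ) : E) • v u := by
  induction k with
  | zero => simp
  | succ k ih =>
    have h1 : l (v u) = ((ζ⁻¹ : Eˣ) : E) • v u := by simpa using h.apply_pow 1 hu
    rw [pow_succ', app_mul, ih, map_smul, h1, smul_smul, pow_succ, Units.val_mul]

omit [Nontrivial W] in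
theorem apply_sq (h : Split S r l v ζ ν) (k : ℕ) {u : W} (hu : u ∈ P0 l) :
    (l ^ k) (v (v u)) = ((ζ⁻¹ ^ (2 * k) : Eˣ) : E) • v (v u) := by
  induction k with
  | zero => simp
  | succ k ih =>
    have h1 : l (v (v u)) = ((ζ⁻¹ ^ 2 : Eˣ) : E) • v (v u) := by
      have := h.apply_pow 2 hu
      rwa [pow_two v, app_mul] at this
    rw [pow_succ', app_mul, ih, map_smul, h1, smul_smul, Nat.mul_succ, pow_add ζ⁻¹ (2 * k), Units.val_mul]

/-- A translate of a vector with three slots, slot by slot. -/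
theorem slots3 (h : Split S r l v ζ ν) (h3 : 3 ≤ r) {a b c : W} (ha : a ∈ P0 l) (hb : b ∈ P0 l) (hc : c ∈ P0 l) {j : ℕ}
    (hj : j < r) {δ : W ≃ₗ[E] W} (hδ : δ ∈ Cent S l) {τ : Eˣ} (hτ : δ * v = sc τ * (v * δ))
    (he : (v ^ j * δ) (three v a b c) = three v a b c) :
    ∀ q < r, (if q = j then δ a else 0)
      + (if q = (j + 1) % r then ((τ : E) * ((ν ^ ((j + 1) / r) : Eˣ) : E)) • δ b else 0)
      + (if q = (j + 2) % r then ((τ : E) * (τ : E) * ((ν ^ ((j + 2) / r) : Eˣ) : E)) • δ c else 0)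
      - (if q = 0 then a else 0) - (if q = 1 then b else 0) - (if q = 2 then c else 0) = 0 := by
  have hδv : ∀ z, δ (v z) = (τ : E) • v (δ z) := fun z => LinearEquiv.congr_fun hτ z
  let u : ℕ → W := fun q => (if q = j then δ a else 0)
      + (if q = (j + 1) % r then ((τ : E) * ((ν ^ ((j + 1) / r) : Eˣ) : E)) • δ b else 0)
      + (if q = (j + 2) % r then ((τ : E) * (τ : E) * ((ν ^ ((j + 2) / r) : Eˣ) : E)) • δ c else 0)
      - (if q = 0 then a else 0) - (if q = 1 then b else 0) - (if q = 2 then c else 0)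
  have hone : ∀ (i : ℕ) (z : W), i < r → ∑ q ∈ Finset.range r, (v ^ q) (if q = i then z else 0) = (v ^ i) z := by
    intro i z hi
    rw [Finset.sum_eq_single i (fun q _ hq => by rw [if_neg hq, map_zero])
      (fun h' => absurd (Finset.mem_range.2 hi) h'), if_pos rfl]
  have hsum : ∑ q ∈ Finset.range r, (v ^ q) (u q) = 0 := by
    simp only [u, map_add, map_sub, Finset.sum_add_distrib, Finset.sum_sub_distrib]
    rw [hone j _ hj, hone _ _ (Nat.mod_lt _ h.hr.pos),
      hone _ _ (Nat.mod_lt _ h.hr.pos), hone 0 _ h.hr.pos, hone 1 _ h.hr.one_lt, hone 2 _ (by omega)]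
    have h1z : ∀ z, (v ^ j) (v z) = (v ^ ((j + 1) % r)) (((ν ^ ((j + 1) / r) : Eˣ) : E) • z) := fun z => by
      rw [← app_mul, ← pow_succ, h.reduce (j + 1)]
    have h2z : ∀ z, (v ^ j) (v (v z)) = (v ^ ((j + 2) % r)) (((ν ^ ((j + 2) / r) : Eˣ) : E) • z) := fun z => by
      rw [← app_mul v v, ← app_mul, show v ^ j * (v * v) = v ^ (j + 2) by rw [pow_add, pow_two], h.reduce (j + 2)]
    simp only [three, app_mul, map_add, map_smul, hδv, smul_smul] at he
    simp only [h2z] at he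
    simp only [h1z] at he
    simp only [map_smul, smul_smul] at he
    simp only [map_smul, pow_zero, app_one, pow_one, pow_two v, app_mul]
    rw [sub_sub, sub_sub, sub_eq_zero]
    convert he using 1
    abel
  have hu := h.slots (Finset.range r) (fun q hq => Finset.mem_range.1 hq) u (fun q _ => by
    refine sub_mem (sub_mem (sub_mem (add_mem (add_mem ?_ ?_) ?_) ?_) ?_) ?_ <;> split_ifs <;>
      (first
        | exact zero_mem _
        | exact Cent.apply_mem hδ ha
        | exact Submodule.smul_mem _ _ (Cent.apply_mem hδ hb)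
        | exact Submodule.smul_mem _ _ (Cent.apply_mem hδ hc)
        | exact ha
        | exact hb
        | exact hc)) hsum
  intro q hq
  exact hu q (Finset.mem_range.2 hq)

/-- Free vectors with two or three slots. -/
theorem free_three (h : Split S r l v ζ ν) (h3 : 3 ≤ r) {a b c : P0 l} (ha : Free h.sys a)
    (hbc : (b ≠ 0 ∧ c = 0) ∨ (b = 0 ∧ c ≠ 0) ∨ (b = c ∧ b ≠ 0 ∧ ∀ t : E, b ≠ t • a)) :
    Free S (three v (a : W) (b : W) (c : W)) := by
  have ha0 : (a : W) ≠ 0 := fun e => ha.1 (Subtype.ext e)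
  refine ⟨fun e => ?_, fun m hm he => ?_⟩
  · have := (h.slot_three h3 a.2 b.2 c.2 (by rw [pow_two v, app_mul]; exact e)).1
    exact ha0 this
  obtain ⟨j, hj, δ, hδ, rfl⟩ := h.decompose hm
  obtain ⟨τ, hτ⟩ := S.comm δ (mem_Cent.1 hδ).1 v h.hv
  have e := slots3 h h3 a.2 b.2 c.2 hj hδ hτ he
  have hδ0 : ∀ {z : W}, z ≠ 0 → δ z ≠ 0 := fun hz e => hz ((LinearEquiv.map_eq_zero_iff δ).1 e)
  have hν0 : ∀ i : ℕ, ((ν ^ i : Eˣ) : E) ≠ 0 := fun i => Units.ne_zero _
  have hτ0 : (τ : E) ≠ 0 := τ.ne_zero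
  by_cases hj0 : j = 0
  · subst hj0
    have e0 := e 0 h.hr.pos
    simp (disch := omega) only [Nat.mod_eq_of_lt, if_neg, if_pos, zero_add] at e0
    norm_num at e0
    obtain ⟨k, hk, rfl⟩ := line_one h ha (mem_Cent.1 hδ).1 (sub_eq_zero.1 e0)
    rw [pow_zero, one_mul] at he ⊢
    simp only [three, map_add, h.l_pow_fix a.2, apply_two h k b.2, apply_sq h k c.2] at he
    have h0 := h.slot_three h3 (u₀ := 0) (u₁ := (((ζ⁻¹ ^ k : Eˣ) : E) - 1) • (b : W))
      (u₂ := (((ζ⁻¹ ^ (2 * k) : Eˣ) : E) - 1) • (c : W)) (zero_mem _) (Submodule.smul_mem _ _ b.2)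
      (Submodule.smul_mem _ _ c.2) (by
        rw [map_smul, map_smul, pow_two v, app_mul, sub_smul, sub_smul, one_smul, one_smul, zero_add]
        rw [← sub_eq_zero] at he
        rw [← he]
        abel)
    suffices hk0 : k = 0 by rw [hk0, pow_zero]
    by_cases hb : b = 0
    · have hc : (c : W) ≠ 0 := by
        rcases hbc with ⟨h', -⟩ | ⟨-, h'⟩ | ⟨-, h', -⟩
        · exact absurd hb h'
        · exact fun e => h' (Subtype.ext e)
        · exact absurd hb h'
      have h1 : ζ⁻¹ ^ (2 * k) = 1 := Units.ext (sub_eq_zero.1 ((smul_eq_zero.1 h0.2.2).resolve_right hc))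
      have h2 : r ∣ 2 * k := (h.hζ.inv.pow_eq_one_iff_dvd _).1 h1
      rcases h.hr.dvd_mul.1 h2 with h' | h'
      · have := Nat.le_of_dvd (by norm_num) h'; omega
      · exact Nat.eq_zero_of_dvd_of_lt h' hk
    · have h1 : ζ⁻¹ ^ k = ζ⁻¹ ^ 0 := by
        rw [pow_zero]
        exact Units.ext (sub_eq_zero.1 ((smul_eq_zero.1 h0.2.1).resolve_right fun e => hb (Subtype.ext e)))
      exact h.hζ.inv.pow_inj hk h.hr.pos h1
  exfalso
  have hj1 : (j + 1) % r ≠ j := add_mod_ne hj one_pos h.hr.one_lt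
  have hj2 : (j + 2) % r ≠ j := add_mod_ne hj two_pos (by omega)
  have ej := e j hj
  simp (disch := first | assumption | omega) only [if_neg (Ne.symm hj1), if_neg (Ne.symm hj2), if_neg, if_pos, add_zero,
    sub_zero] at ej
  by_cases hj3 : 3 ≤ j
  · simp (disch := omega) only [if_neg, sub_zero] at ej
    exact hδ0 ha0 ej
  obtain rfl | rfl : j = 1 ∨ j = 2 := by omega
  · -- shifted by one
    rcases (show r = 3 ∨ 4 ≤ r by omega) with rfl | h4
    · have e0 := e 0 (by norm_num)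
      have e2 := e 2 (by norm_num)
      norm_num at ej e0 e2
      rcases hbc with ⟨hb, hc⟩ | ⟨hb, hc⟩ | ⟨hb, hb0, hsep⟩
      · simp only [hc, ZeroMemClass.coe_zero, sub_zero, smul_eq_zero, map_zero] at e2
        exact (e2.resolve_left hτ0) |> fun e' => hb (Subtype.ext ((LinearEquiv.map_eq_zero_iff δ).1 e'))
      · simp only [hb, ZeroMemClass.coe_zero, sub_zero] at ej
        exact hδ0 ha0 ej
      · subst hb
        have h2 : δ (b : W) = (τ : E)⁻¹ • (b : W) := by
          rw [eq_inv_smul_iff₀ hτ0]; exact sub_eq_zero.1 e2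
        rw [h2, smul_smul, sub_eq_zero] at e0
        refine hsep (((τ : E) * (τ : E) * (ν : E)) * (τ : E)⁻¹)⁻¹ (Subtype.ext ?_)
        show (b : W) = _ • (a : W)
        rw [← e0, smul_smul, inv_mul_cancel₀ (mul_ne_zero (mul_ne_zero (mul_ne_zero hτ0 hτ0) ν.ne_zero) (inv_ne_zero hτ0)),
          one_smul]
    · have e2 := e 2 (by omega)
      have e3 := e 3 (by omega)
      simp (disch := omega) only [Nat.mod_eq_of_lt, Nat.div_eq_of_lt, if_neg, if_pos] at e2 e3
      norm_num [hτ0] at e2 e3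
      rcases hbc with ⟨hb, hc⟩ | ⟨hb, hc⟩ | ⟨hb, hb0, -⟩
      · simp only [hc, ZeroMemClass.coe_zero, sub_zero, smul_eq_zero] at e2
        exact hb (Subtype.ext ((LinearEquiv.map_eq_zero_iff δ).1 (e2.resolve_left hτ0)))
      · exact hc e3
      · exact hb0 (hb ▸ e3)
  · -- shifted by two
    rcases (show r = 3 ∨ 4 ≤ r by omega) with rfl | h4
    · have e0 := e 0 (by norm_num)
      have e1 := e 1 (by norm_num)
      norm_num at ej e0 e1
      rcases hbc with ⟨hb, hc⟩ | ⟨hb, hc⟩ | ⟨hb, hb0, hsep⟩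
      · simp only [hc, ZeroMemClass.coe_zero, sub_zero] at ej
        exact hδ0 ha0 ej
      · simp only [hb, ZeroMemClass.coe_zero, sub_zero, smul_eq_zero, map_zero] at e1
        exact hc (Subtype.ext ((LinearEquiv.map_eq_zero_iff δ).1 (e1.resolve_left (by simp [hτ0]))))
      · subst hb
        have h1 : δ (b : W) = ((τ : E) * (τ : E) * (ν : E))⁻¹ • (b : W) := by
          rw [eq_inv_smul_iff₀ (mul_ne_zero (mul_ne_zero hτ0 hτ0) ν.ne_zero)]; exact sub_eq_zero.1 e1
        rw [h1, smul_smul, sub_eq_zero] at e0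
        refine hsep (((τ : E) * (ν : E)) * ((τ : E) * (τ : E) * (ν : E))⁻¹)⁻¹ (Subtype.ext ?_)
        show (b : W) = _ • (a : W)
        rw [← e0, smul_smul, inv_mul_cancel₀ (mul_ne_zero (mul_ne_zero hτ0 ν.ne_zero)
          (inv_ne_zero (mul_ne_zero (mul_ne_zero hτ0 hτ0) ν.ne_zero))), one_smul]
    · have e3 := e 3 (by omega)
      simp (disch := omega) only [Nat.mod_eq_of_lt, if_neg, if_pos] at e3
      rcases (show r = 4 ∨ 5 ≤ r by omega) with h4' | h5
      · exact absurd (h4' ▸ h.hr) (by norm_num)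
      simp (disch := omega) only [Nat.mod_eq_of_lt, Nat.div_eq_of_lt, if_neg] at e3
      norm_num [hτ0] at e3
      rcases hbc with ⟨hb, hc⟩ | ⟨hb, hc⟩ | ⟨hb, hb0, -⟩
      · exact hb e3
      · have e4 := e 4 (by omega)
        simp (disch := omega) only [Nat.mod_eq_of_lt, Nat.div_eq_of_lt, if_neg, if_pos] at e4
        norm_num [hτ0] at e4
        exact hc e4
      · exact hb0 e3

/-- The recursion. -/
theorem step (h : Split S r l v ζ ν) (h3 : 3 ≤ r) {A B C : P0 l} (hp : Triple h.sys A B C) :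
    ∃ A' B' C' : W, Triple S A' B' C' := by
  classical
  have hA0 : (A : W) ≠ 0 := fun e => hp.freeA.1 (Subtype.ext e)
  -- the third vector
  obtain ⟨b, c, hbc, hkey⟩ : ∃ b c : P0 l,
      ((b ≠ 0 ∧ c = 0) ∨ (b = 0 ∧ c ≠ 0) ∨ (b = c ∧ b ≠ 0 ∧ ∀ t : E, b ≠ t • A)) ∧
      (b = 0 ∧ c = A ∧ (∀ g : P0 l ≃+ P0 l, Nor h.sys g → g A = A → g B = B → Fix h.sys g A) ∨
        b = C ∧ c = C) := by
    rcases hp.sep with hs | hs
    · exact ⟨C, C, Or.inr (Or.inr ⟨rfl, hp.ne, hs⟩), Or.inr ⟨rfl, rfl⟩⟩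
    · exact ⟨0, A, Or.inr (Or.inl ⟨rfl, hp.freeA.1⟩), Or.inl ⟨rfl, rfl, hs⟩⟩
  have hX2 : Free S (three v (B : W) (A : W) ((0 : P0 l) : W)) :=
    free_three h h3 hp.freeB (Or.inl ⟨hp.freeA.1, rfl⟩)
  have hX3 : Free S (three v (A : W) (b : W) (c : W)) := free_three h h3 hp.freeA hbc
  refine ⟨_, _, A, { freeA := hX2, freeB := hX3, ne := hA0, sep := Or.inl (fun t e => ?_)
                     key := (fun g hg hg2 hg3 hgA => ?_) }⟩
  · simp only [three, ZeroMemClass.coe_zero, map_zero, add_zero, smul_add] at e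
    have h0 := h.slot_three h3 (u₀ := t • (B : W) - (A : W)) (u₁ := t • (A : W)) (u₂ := 0)
      (sub_mem (Submodule.smul_mem _ _ B.2) A.2) (Submodule.smul_mem _ _ A.2) (zero_mem _)
      (by rw [map_smul, map_zero, add_zero, sub_add_eq_add_sub, ← e, sub_self])
    have ht := (smul_eq_zero.1 h0.2.1).resolve_right hA0
    rw [ht, zero_smul, zero_sub, neg_eq_zero] at h0
    exact hA0 h0.1
  obtain ⟨⟨σ, hσ⟩, hgm⟩ := hg
  choose φ hφm hφ using hgm
  -- the image of `l`
  have hlx : φ l h.hl (A : W) = (A : W) := by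
    have := hφ l h.hl (A : W)
    rw [mem_P0.1 A.2, hgA] at this
    exact this.symm
  obtain ⟨i, hi, hli⟩ := line_one h hp.freeA (hφm l h.hl) hlx
  have hi0 : i ≠ 0 := by
    rintro rfl
    have hl1 : l = 1 := LinearEquiv.ext fun u => g.injective (by rw [hφ l h.hl, hli]; rfl)
    have h1 := h.comm
    rw [hl1, mul_one, one_mul] at h1
    exact h.hζ.ne_one h.hr.one_lt
      (sc_inj (W := W) ((mul_eq_right.1 h1.symm).trans (map_one sc).symm))
  obtain ⟨β, -, hβ⟩ := Nat.exists_mul_mod_eq_one_of_coprime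
    ((h.hr.coprime_iff_not_dvd.2 fun hd => by
      have := Nat.le_of_dvd (Nat.pos_of_ne_zero hi0) hd; omega).symm) h.hr.one_lt
  have hlb : (φ l h.hl) ^ β = l := by
    rw [hli, ← pow_mul, ← Nat.mod_add_div (i * β) r, hβ, pow_add, pow_one, pow_mul, h.lpow, one_pow, mul_one]
  have hP : ∀ u, g u ∈ P0 l ↔ u ∈ P0 l := by
    intro u
    constructor
    · intro hu
      refine g.injective ?_
      rw [hφ l h.hl, hli]
      exact h.l_pow_fix hu i
    · intro hu
      have h1 : φ l h.hl (g u) = g u := by rw [← hφ l h.hl, mem_P0.1 hu]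
      have hk : ∀ k : ℕ, ((φ l h.hl) ^ k) (g u) = g u := fun k => by
        induction k with
        | zero => rfl
        | succ k ih => rw [pow_succ, app_mul, h1, ih]
      have := hk β
      rwa [hlb] at this
  have hφC : ∀ δ (hδ : δ ∈ Cent S l), φ δ (mem_Cent.1 hδ).1 ∈ Cent S l := by
    intro δ hδ
    refine mem_Cent.2 ⟨hφm _ _, ?_⟩
    have hcm : Commute (φ l h.hl) (φ δ (mem_Cent.1 hδ).1) := LinearEquiv.ext fun u => by
      obtain ⟨u, rfl⟩ := g.surjective u
      rw [app_mul, app_mul, ← hφ, ← hφ, ← hφ, ← hφ, ← app_mul, (mem_Cent.1 hδ).2, app_mul]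
    have := hcm.pow_left β
    rwa [hlb] at this
  -- the restriction
  let g₀ : P0 l ≃+ P0 l :=
    { toFun := fun u => ⟨g u, (hP u).2 u.2⟩
      invFun := fun u => ⟨g.symm u, (hP _).1 (by rw [g.apply_symm_apply]; exact u.2)⟩
      left_inv := fun u => Subtype.ext (g.symm_apply_apply _)
      right_inv := fun u => Subtype.ext (g.apply_symm_apply _)
      map_add' := fun a b => Subtype.ext (map_add g (a : W) b) }
  have hg₀ : Nor h.sys g₀ := by
    refine ⟨⟨σ, fun a u => Subtype.ext (hσ a u)⟩, ?_⟩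
    rintro _ ⟨δ, rfl⟩
    exact ⟨_, h.mem_sys (hφC δ δ.2), fun u => Subtype.ext (hφ _ _ (u : W))⟩
  -- the image of `v`
  obtain ⟨j, hj, δ, hδ, hvj⟩ := h.decompose (hφm v h.hv)
  have hgv : ∀ u, g (v u) = (v ^ j) (δ (g u)) := fun u => by rw [hφ v h.hv, hvj, app_mul]
  have hδA : δ (A : W) ≠ 0 := fun e => hA0 ((LinearEquiv.map_eq_zero_iff δ).1 e)
  have hgB : g (B : W) ∈ P0 l := (hP _).2 B.2
  have hδAP : δ (A : W) ∈ P0 l := Cent.apply_mem hδ A.2
  simp only [three, ZeroMemClass.coe_zero, map_zero, add_zero, map_add, hgv, hgA] at hg2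
  -- slots
  let u : ℕ → W := fun q => (if q = 0 then g (B : W) - B else 0) + (if q = j then δ (A : W) else 0)
    - (if q = 1 then (A : W) else 0)
  have hone : ∀ (i : ℕ) (z : W), i < r → ∑ q ∈ Finset.range r, (v ^ q) (if q = i then z else 0) = (v ^ i) z := by
    intro i z hi
    rw [Finset.sum_eq_single i (fun q _ hq => by rw [if_neg hq, map_zero])
      (fun h' => absurd (Finset.mem_range.2 hi) h'), if_pos rfl]
  have hu := h.slots (Finset.range r) (fun q hq => Finset.mem_range.1 hq) u (fun q _ => by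
      refine sub_mem (add_mem ?_ ?_) ?_ <;> split_ifs <;>
        (first | exact zero_mem _ | exact sub_mem hgB B.2 | exact hδAP | exact A.2)) (by
    simp only [u, map_add, map_sub, Finset.sum_add_distrib, Finset.sum_sub_distrib]
    rw [hone 0 _ h.hr.pos, hone j _ hj, hone 1 _ h.hr.one_lt, pow_zero, app_one, pow_one, sub_add_eq_add_sub, hg2]
    abel)
  have hj1 : j = 1 := by
    by_contra hne
    have e1 := hu 1 (Finset.mem_range.2 h.hr.one_lt)
    simp only [u, if_neg one_ne_zero, if_neg (Ne.symm hne), if_pos, zero_add, zero_sub, neg_eq_zero] at e1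
    exact hA0 e1
  subst hj1
  have e0 := hu 0 (Finset.mem_range.2 h.hr.pos)
  have e1 := hu 1 (Finset.mem_range.2 h.hr.one_lt)
  simp only [u, if_neg one_ne_zero, if_neg zero_ne_one, if_pos, add_zero, zero_add, sub_zero, sub_eq_zero] at e0 e1
  obtain ⟨k, hk, rfl⟩ := line_one h hp.freeA (mem_Cent.1 hδ).1 e1
  rw [pow_one] at hgv
  have hg₁ : ∀ z : P0 l, g (v (z : W)) = v (g (z : W)) := fun z => by
    rw [hgv, h.l_pow_fix ((hP _).2 z.2)]
  have hg₂ : ∀ z : P0 l, g (v (v (z : W))) = ((ζ⁻¹ ^ k : Eˣ) : E) • v (v (g (z : W))) := fun z => by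
    rw [hgv, hg₁, apply_two h k ((hP _).2 z.2), map_smul]
  simp only [three, map_add, hg₁, hg₂, hgA] at hg3
  have h0 := h.slot_three h3 (u₀ := 0) (u₁ := g (b : W) - b) (u₂ := ((ζ⁻¹ ^ k : Eˣ) : E) • g (c : W) - c)
    (zero_mem _) (sub_mem ((hP _).2 b.2) b.2) (sub_mem (Submodule.smul_mem _ _ ((hP _).2 c.2)) c.2) (by
      rw [map_sub, pow_two v, app_mul, map_sub, map_sub, map_smul, map_smul, zero_add]
      rw [← sub_eq_zero] at hg3
      rw [← hg3]
      abel)
  obtain ⟨hk0, hfix⟩ : k = 0 ∧ Fix h.sys g₀ A := by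
    have hζk : ∀ z : W, z ≠ 0 → ((ζ⁻¹ ^ k : Eˣ) : E) • z = z → k = 0 := fun z hz he =>
      h.hζ.inv.pow_inj hk h.hr.pos ((Units.ext (smul_left_injective E hz (he.trans (one_smul E z).symm))).trans
        (pow_zero _).symm)
    rcases hkey with ⟨rfl, rfl, hk2⟩ | ⟨rfl, rfl⟩
    · have e2 := sub_eq_zero.1 h0.2.2
      rw [hgA] at e2
      exact ⟨hζk _ hA0 e2, hk2 g₀ hg₀ (Subtype.ext hgA) (Subtype.ext e0)⟩
    · have eb := sub_eq_zero.1 h0.2.1
      have e2 := sub_eq_zero.1 h0.2.2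
      rw [eb] at e2
      exact ⟨hζk _ (fun e => hp.ne (Subtype.ext e)) e2,
        hp.key g₀ hg₀ (Subtype.ext hgA) (Subtype.ext e0) (Subtype.ext eb)⟩
  subst hk0
  obtain ⟨u₀, hu₀, hu₀P⟩ := h.exists_P0
  have hlin : ∀ (a : E) (u : W), g (a • u) = a • g u := by
    intro a u
    have h1 : g (a • u₀) = a • g u₀ := congrArg Subtype.val (hfix.1 a ⟨u₀, hu₀P⟩)
    rw [hσ] at h1
    rw [hσ, smul_left_injective E (fun e => hu₀ (g.injective (e.trans (map_zero g).symm))) h1]
  have hv1 : ∀ u, g (v u) = v (g u) := fun u => by rw [hgv, pow_zero, app_one]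
  have hi1 : i = 1 := by
    have h1 : v * l ^ i = sc (ζ ^ i) * (l ^ i * v) := comm_pow v l h.comm i
    have h2 : v * l ^ i = sc ζ * (l ^ i * v) := LinearEquiv.ext fun u => by
      obtain ⟨u, rfl⟩ := g.surjective u
      rw [app_mul, app_mul, app_mul, ← hli, ← hφ l h.hl, ← hv1, ← hv1, ← hφ l h.hl, sc_apply, ← hlin,
        ← app_mul, h.comm]
      rfl
    have h4 : ζ ^ i = ζ ^ 1 := (sc_inj (W := W) (mul_right_cancel (h1.symm.trans h2))).trans (pow_one ζ).symm
    exact h.hζ.pow_inj hi h.hr.one_lt h4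
  have hC : ∀ ε (hε : ε ∈ Cent S l), φ ε (mem_Cent.1 hε).1 = ε := by
    intro ε hε
    have hP0 : ∀ u ∈ P0 l, φ ε (mem_Cent.1 hε).1 u = ε u := by
      intro u hu
      obtain ⟨u', rfl⟩ := g.surjective u
      have h1 : g (ε u') = ε (g u') :=
        congrArg Subtype.val (hfix.2.1 _ (h.mem_sys hε) ⟨u', (hP u').1 hu⟩)
      rw [← hφ, h1]
    obtain ⟨s, k, hk, he, hs⟩ := h.of_scalar hu₀ hu₀P (δ := ε⁻¹ * φ ε (mem_Cent.1 hε).1)
      (mul_mem (inv_mem hε) (hφC ε hε)) (c := 1) fun u hu => by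
        rw [app_mul, hP0 u hu, app_inv_app, one_smul]
    obtain rfl : s = 1 := Units.ext hs
    rw [map_one, one_mul, inv_mul_eq_iff_eq_mul] at he
    obtain ⟨τ, hτ⟩ := S.comm v h.hv ε (mem_Cent.1 hε).1
    have h2 : v * φ ε (mem_Cent.1 hε).1 = sc τ * (φ ε (mem_Cent.1 hε).1 * v) := LinearEquiv.ext fun u => by
      obtain ⟨u, rfl⟩ := g.surjective u
      rw [app_mul, app_mul, app_mul, ← hφ, ← hv1, ← hv1, ← hφ, sc_apply, ← hlin, ← app_mul, hτ]
      rfl
    rw [he, comm_scalar v ε (l ^ k) hτ (comm_pow v l h.comm k)] at h2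
    have h4 : ζ ^ k = ζ ^ 0 := by
      rw [pow_zero]; exact mul_eq_left.1 (sc_inj (W := W) (mul_right_cancel h2))
    rw [h.hζ.pow_inj hk h.hr.pos h4, pow_zero, mul_one] at he
    exact he
  refine ⟨hlin, fun m hm u => ?_, ?_⟩
  · obtain ⟨q, -, ε, hε, rfl⟩ := h.decompose hm
    have hvq : ∀ q u, g ((v ^ q) u) = (v ^ q) (g u) := by
      intro q
      induction q with
      | zero => intro u; rfl
      | succ q ih => intro u; rw [pow_succ, app_mul, ih, hv1, ← app_mul]
    rw [app_mul, hvq, hφ ε (mem_Cent.1 hε).1, hC ε hε, app_mul]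
  · simp only [three, ZeroMemClass.coe_zero, map_zero, add_zero, map_add, hv1, hgA, e0]

/-- In characteristic two every non-scalar group splits. -/
theorem split_of_char_two [Finite E] (S : Sys E W n) (hsq : Squarefree n) (h2 : (2 : E) = 0) (ht : ¬ S.Trivial) :
    ∃ r l v ζ ν, Split S r l v ζ ν ∧ 3 ≤ r := by
  have hn : 0 < n := Nat.pos_of_ne_zero fun e => by rw [e] at hsq; exact not_squarefree_zero hsq
  obtain ⟨a, ha, hns⟩ : ∃ a ∈ S.grp, ¬ ∃ c : Eˣ, a = sc c := by simpa [Sys.Trivial] using ht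
  obtain ⟨r, k, hr, hrn, hnk, ⟨c, hc⟩, -⟩ := exists_prime_power S hn ha hns
  obtain ⟨w, ξ, d, hw, hξ, hwb, hd⟩ := exists_partner hsq (pow_mem ha k) hr hrn hnk hc
  have hr2 : r ≠ 2 := by
    rintro rfl
    have h1 : (ξ : E) ^ 2 = 1 := by rw [← Units.val_pow_eq_pow_val, hξ.pow_eq_one, Units.val_one]
    refine hξ.ne_one one_lt_two (Units.ext ?_)
    rcases sq_eq_one_iff.1 h1 with e | e
    · exact e
    · rw [e, Units.val_one]; linear_combination -h2
  obtain ⟨l, v', ζ, ν, h⟩ := exists_split_odd (pow_mem ha k) hw hr hr2 hξ hwb hc hd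
  exact ⟨r, l, v', ζ, ν, h, by have := hr.two_le; omega⟩

/-- Three vectors in characteristic two. -/
theorem triple_two [Finite E] [Finite W] (S : Sys E W n) (hsq : Squarefree n) (h2 : (2 : E) = 0) :
    ∃ A B C : W, Triple S A B C := by
  suffices hall : ∀ (N : ℕ) (W : Type) [AddCommGroup W] [Module E W] [Nontrivial W] [Finite W] (S : Sys E W n),
      Nat.card W ≤ N → ∃ A B C : W, Triple S A B C from hall _ W S le_rfl
  intro N
  induction N with
  | zero => intro W _ _ _ _ S hN; exact absurd hN (by have := Nat.card_pos (α := W); omega)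
  | succ N ih =>
    intro W _ _ _ _ S hN
    by_cases ht : S.Trivial
    · obtain ⟨x, hx⟩ := exists_ne (0 : W)
      obtain ⟨B, hB⟩ := triple_trivial ht hx
      exact ⟨x, B, x, hB⟩
    · obtain ⟨r, l, v, ζ, ν, h, h3⟩ := split_of_char_two S hsq h2 ht
      obtain ⟨u₀, hu₀, hu₀P⟩ := h.exists_P0
      haveI : Nontrivial (P0 l) := ⟨⟨⟨u₀, hu₀P⟩, 0, fun e => hu₀ (congrArg Subtype.val e)⟩⟩
      obtain ⟨A, B, C, hp⟩ := ih (P0 l) h.sys (by have := h.card_lt; omega)
      exact step h h3 hp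

end Cfsg.Agent.BaseThree
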