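import Cfsg.Agent.Lib.BaseTwo.Top
import Cfsg.Agent.Lib.BaseThree.Recursion

/-! Three vectors for primitive solvable linear groups in every characteristic. -/

set_option autoImplicit false
set_option linter.style.haveILetI false
set_option maxRecDepth 100000

namespace Cfsg.Agent.BaseThree

open Cfsg.Agent.BaseTwo

/-- Certificate. -/
def plus2Steps : List (List BaseTwo.Step) :=
  [
    [.rel 0 0 [2, 1, 2], .push 0 1, .rel 0 2 [0, 2, 1, 1], .rel 0 3 [0, 1, 0, 0]],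
    [.rel 1 0 [2, 2, 2, 0], .rel 1 1 [2, 0, 0, 1], .rel 1 2 [1, 1, 1, 2], .rel 1 3 [2, 0, 2, 0]],
    [.rel 2 0 [2, 2, 0, 2], .rel 2 1 [2, 0, 1, 0], .rel 2 2 [2, 0, 0, 2], .rel 2 3 [1, 1, 2, 1]],
    [.rel 3 0 [1, 2, 0, 1], .rel 3 1 [0, 0, 2, 0], .rel 3 2 [0, 2, 0, 0], .rel 3 3 [0, 1, 2, 2]]]

theorem plus2_cert :
    node 3 4 (gensP 3 2) [1, 0, 0, 0] [0, 1, 2, 2] plus2Steps []
      [([0, 1, 2, 2], [0, 1, 2, 2]), ([1, 2, 1, 0], [1, 2, 1, 0]), ([2, 2, 2, 0], [2, 2, 2, 0])] = true := by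
  decide +kernel

variable {A : Type} [Group A] [Finite A] {V : Type} [AddCommGroup V] [Finite V] [DistribMulAction A V]

variable {E : Type} [Field E] [Module E V] [Nontrivial V] {n : ℕ} {S : Sys E V n}

/-- The field of three elements. -/
theorem base3_three [CharP E 3] [Finite E] (hQ : Nat.card E = 3) (hS : Setup E n S A) :
    ∃ x y z : V, x ≠ 0 ∧ ∀ g : A, g • x = x → g • y = y → g • z = z → g = 1 := by
  haveI : Fact (Nat.Prime 3) := ⟨by norm_num⟩
  have hsurj := exists_natCast (E := E) (q := 3) hQ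
  have two : (∃ x y : V, x ≠ 0 ∧ ∀ g : A, g • x = x → g • y = y → g = 1) →
      ∃ x y z : V, x ≠ 0 ∧ ∀ g : A, g • x = x → g • y = y → g • z = z → g = 1 :=
    fun ⟨x, y, hx, h⟩ => ⟨x, y, x, hx, fun g h1 h2 _ => h g h1 h2⟩
  rcases tri_three hQ hS.sq S with ht | ⟨k, G, e, ms, ⟨hk, hG⟩, hlen, hM⟩ | ⟨x, y, hp⟩
  · exact two (base_of_trivial hS ht)
  swap
  · exact two (base_of_key hS hp.freeX.1 hp.key)
  have hdim : ∀ (X : List ℕ), X.length = 2 ^ k → X.length = e.length := fun X h => h.trans hlen.symm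
  -- three vectors from a certificate for two and the pivot
  have three : ∀ {X Y Wc cw : List ℕ} {sts : List (List BaseTwo.Step)}, X.length = 2 ^ k → Y.length = 2 ^ k →
      Wc.length = 2 ^ k → sts.length = G.length → node 3 (2 ^ k) G cw Wc sts [] [(X, X), (Y, Y)] = true →
      ev (E := E) e Wc ≠ 0 → ∃ x y z : V, x ≠ 0 ∧ ∀ g : A, g • x = x → g • y = y → g • z = z → g = 1 := by
    intro X Y Wc cw sts hX hY hW hs hc hne
    refine ⟨ev (E := E) e Wc, ev (E := E) e X, ev (E := E) e Y, hne, fun g hw hx hy => hS.triv g _ hne ?_⟩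
    exact hM.key (by norm_num) hsurj hlen hX hY hW hs hc (act g) (hS.nor g) hx hy ⟨1, one_mem _, hw⟩
  rcases hk with rfl | rfl | rfl <;> rcases hG with rfl | rfl
  · exact two (base_of_key hS (ev_ne_zero hM (X := [1, 0]) (hdim _ rfl) rfl) fun g hg h1 h2 h3 =>
      hM.key (by norm_num) hsurj hlen rfl rfl rfl rfl plus1_cert g hg h1 h2 h3)
  · exact two (base_of_key hS (ev_ne_zero hM (X := [1, 0]) (hdim _ rfl) rfl) fun g hg h1 h2 h3 =>
      hM.key (by norm_num) hsurj hlen rfl rfl rfl rfl minus1_cert g hg h1 h2 h3)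
  · have hX0 := ev_ne_zero hM (X := [0, 1, 2, 2]) (hdim _ rfl) rfl
    refine ⟨ev (E := E) e [0, 1, 2, 2], ev (E := E) e [1, 2, 1, 0], ev (E := E) e [2, 2, 2, 0], hX0,
      fun g h1 h2 h3 => hS.triv g _ hX0 ?_⟩
    obtain ⟨σ, hσ⟩ := (hS.nor g).1
    obtain ⟨u, hu⟩ := exists_ne (0 : V)
    obtain ⟨τ, hτ⟩ := exists_ringHom hσ hu
    have hlin : ∀ (c : E) (u : V), act g (c • u) = c • act g u := fun c u => by
      obtain ⟨i, -, rfl⟩ := hsurj c
      rw [hσ, ← hτ, map_natCast]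
    refine node_sound (q := 3) (cw := [1, 0, 0, 0]) (by norm_num) hM hsurj (hS.nor g) hlin (Wc := [0, 1, 2, 2])
      (hdim _ rfl).symm.symm ⟨1, one_mem _, h1⟩ plus2Steps []
      [([0, 1, 2, 2], [0, 1, 2, 2]), ([1, 2, 1, 0], [1, 2, 1, 0]), ([2, 2, 2, 0], [2, 2, 2, 0])]
      (by rw [hM.length_eq]; rfl) (fun i c h => by simp at h) ?_ (by rw [hlen]; exact plus2_cert)
    intro pr hpr
    simp only [List.mem_cons, List.not_mem_nil, or_false] at hpr
    rcases hpr with rfl | rfl | rfl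
    · exact ⟨hdim _ rfl, hdim _ rfl, h1⟩
    · exact ⟨hdim _ rfl, hdim _ rfl, h2⟩
    · exact ⟨hdim _ rfl, hdim _ rfl, h3⟩
  · exact two (base_of_key hS (ev_ne_zero hM (X := [1, 1, 2, 2]) (hdim _ rfl) rfl) fun g hg h1 h2 h3 =>
      hM.key (by norm_num) hsurj hlen rfl rfl rfl rfl minus2_cert g hg h1 h2 h3)
  · exact three rfl rfl rfl rfl plus3_cert (ev_ne_zero hM (hdim _ rfl) rfl)
  · exact three rfl rfl rfl rfl minus3_cert (ev_ne_zero hM (hdim _ rfl) rfl)

omit [Module E V] [Field E] in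
/-- A primitive solvable group has three vectors with trivial common stabiliser. -/
theorem base3_primitive [FaithfulSMul A V] [Group.IsSolvable A] (p : ℕ) [hp : Fact p.Prime]
    [Module (ZMod p) V] (hirr : OddBaseTwo.Irr A V) (hprim : OddBaseTwo.Prim A V p) :
    ∃ x y z : V, x ≠ 0 ∧ ∀ g : A, g • x = x → g • y = y → g • z = z → g = 1 := by
  obtain ⟨F, iF, iFf, iM, n, S, hpF, hS⟩ := exists_setup p hirr hprim
  haveI : CharP F p := (CharP.charP_iff_prime_eq_zero hp.out).2 hpF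
  by_cases hp2 : p = 2
  · subst hp2
    have h2 : (2 : F) = 0 := by exact_mod_cast hpF
    obtain ⟨a, b, c, hT⟩ := triple_two S hS.sq h2
    exact ⟨a, b, c, hT.freeA.1, fun g h1 h2' h3 =>
      hS.triv g a hT.freeA.1 (hT.key (act g) (hS.nor g) h1 h2' h3)⟩
  have two : (∃ x y : V, x ≠ 0 ∧ ∀ g : A, g • x = x → g • y = y → g = 1) →
      ∃ x y z : V, x ≠ 0 ∧ ∀ g : A, g • x = x → g • y = y → g • z = z → g = 1 :=
    fun ⟨x, y, hx, h⟩ => ⟨x, y, x, hx, fun g h1 h2 _ => h g h1 h2⟩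
  have h3 : 3 ≤ p := by have := hp.out.two_le; omega
  have h2 : (2 : F) ≠ 0 := two_ne_zero_of_char (q := p) (by omega)
  by_cases hQ : 7 ≤ Nat.card F
  · exact two (base_large hS h2 hQ)
  haveI := Fintype.ofFinite F
  obtain ⟨d, -, hd⟩ := FiniteField.card F p
  rw [← Nat.card_eq_fintype_card] at hd
  have hQp : Nat.card F = p := by
    rcases (show (d : ℕ) = 1 ∨ 2 ≤ (d : ℕ) by have := d.pos; omega) with h1 | h1
    · rw [hd, h1, pow_one]
    · exfalso
      have : 3 ^ 2 ≤ Nat.card F := hd ▸ (Nat.pow_le_pow_left h3 2).trans (Nat.pow_le_pow_right (by omega) h1)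
      omega
  rcases (show p = 3 ∨ p = 5 ∨ p = 4 ∨ p = 6 by omega) with rfl | rfl | rfl | rfl
  · exact base3_three hQp hS
  · exact two (base_five hQp hS)
  · exact absurd hp.out (by norm_num)
  · exact absurd hp.out (by norm_num)

end Cfsg.Agent.BaseThree
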