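import Cfsg.Agent.Lib.BaseThree.Colour
import Cfsg.Agent.Lib.BaseThree.Classes
import Cfsg.Agent.Lib.BaseThree.Primitive
import Cfsg.Agent.Lib.OddBaseTwo.Main
import Mathlib.Algebra.Group.TransferInstance

/-! Three vectors with trivial common stabiliser for completely reducible solvable groups. -/

set_option autoImplicit false
set_option linter.style.haveILetI false

namespace Cfsg.Agent.BaseThree

open scoped Pointwise
open OddBaseTwo (Inv Irr CR Prim IsSys Img subAction lin lin_apply lin_mul_inv lin_inv_mul idem_eq_one sysAction)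

/-- Three vectors whose common stabiliser is the kernel. -/
def Base3 (A V : Type) [Group A] [AddCommGroup V] [DistribMulAction A V] : Prop :=
  ∃ q : V × V × V, Reg A q

/-- The theorem for all modules of order below `N`. -/
def Below3 (N : ℕ) : Prop :=
  ∀ (A W : Type) [Group A] [Finite A] [AddCommGroup W] [Finite W] [DistribMulAction A W],
    Group.IsSolvable A → CR A W → Nat.card W < N → Base3 A W

variable {A : Type} [Group A] [Finite A] {V : Type} [AddCommGroup V] [Finite V] [DistribMulAction A V]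
  (p : ℕ) [Module (ZMod p) V]

/-- The imprimitive case. -/
theorem base_of_imprimitive [Fact p.Prime] [Group.IsSolvable A]
    (hirr : Irr A V) (hIH : Below3 (Nat.card V)) (hnp : ¬ Prim A V p) : Base3 A V := by
  classical
  haveI : Finite (Module.End (ZMod p) V) := Finite.of_injective _ DFunLike.coe_injective
  simp only [Prim, not_forall, not_le] at hnp
  obtain ⟨O, ⟨hO, hO2⟩, hmin⟩ := exists_minimalFor_of_wellFoundedLT
    (fun O : Finset (Module.End (ZMod p) V) => IsSys (A := A) p O ∧ 1 < O.card) Finset.card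
    (by obtain ⟨O, hO, h2⟩ := hnp; exact ⟨O, hO, h2⟩)
  letI : MulAction A O := sysAction p hO
  have hsmulO : ∀ (a : A) (e : O), ((a • e : O) : Module.End (ZMod p) V) = lin p a * (e : Module.End (ZMod p) V) * lin p a⁻¹ :=
    fun _ _ => rfl
  have happ : ∀ (a : A) (e : O) (v : V),
      ((a • e : O) : Module.End (ZMod p) V) (a • v) = a • ((e : Module.End (ZMod p) V) v) := by
    intro a e v
    rw [hsmulO, Module.End.mul_apply, Module.End.mul_apply, lin_apply, lin_apply, inv_smul_smul]
  have horth : ∀ e f : O, e ≠ f → (e : Module.End (ZMod p) V) * f = 0 :=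
    fun e f h => hO.orth _ e.2 _ f.2 fun h' => h (Subtype.ext h')
  have hsel : ∀ (e : O) (T : Finset O),
      (e : Module.End (ZMod p) V) * ∑ x ∈ T, (x : Module.End (ZMod p) V) = if e ∈ T then (e : Module.End (ZMod p) V) else 0 := by
    intro e T
    rw [Finset.mul_sum]
    by_cases he : e ∈ T
    · rw [if_pos he, Finset.sum_eq_single e (fun x _ hx => horth e x (Ne.symm hx)) (fun h => absurd he h), hO.idem _ e.2]
    · rw [if_neg he, Finset.sum_eq_zero fun x hx => horth e x fun h => he (h ▸ hx)]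
  have hsum : ∑ x : O, (x : Module.End (ZMod p) V) = 1 := by
    rw [Finset.sum_coe_sort O fun x => x]; exact hO.sum
  have hsum_inj : ∀ T₁ T₂ : Finset O, ∑ x ∈ T₁, (x : Module.End (ZMod p) V) = ∑ x ∈ T₂, (x : Module.End (ZMod p) V) → T₁ = T₂ := by
    intro T₁ T₂ h
    ext e
    have h' := congrArg ((e : Module.End (ZMod p) V) * ·) h
    simp only [hsel] at h'
    have := hO.ne _ e.2
    split_ifs at h' with h1 h2 h2
    · simp [h1, h2]
    · exact absurd h' this
    · exact absurd h'.symm this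
    · simp [h1, h2]
  have hmul_sum : ∀ T₁ T₂ : Finset O, Disjoint T₁ T₂ →
      (∑ x ∈ T₁, (x : Module.End (ZMod p) V)) * ∑ x ∈ T₂, (x : Module.End (ZMod p) V) = 0 := by
    intro T₁ T₂ h
    rw [Finset.sum_mul]
    exact Finset.sum_eq_zero fun e he => by rw [hsel, if_neg (Finset.disjoint_left.1 h he)]
  have hconj_sum : ∀ (a : A) (T : Finset O), lin p a * (∑ x ∈ T, (x : Module.End (ZMod p) V)) * lin p a⁻¹ =
      ∑ x ∈ T.image (fun z : O => a • z), (x : Module.End (ZMod p) V) := by
    intro a T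
    rw [Finset.mul_sum, Finset.sum_mul, Finset.sum_image fun x _ y _ h => smul_left_cancel a h]
    rfl
  have hOne : Nonempty O := by
    obtain ⟨e, he⟩ := Finset.card_pos.1 (by omega : 0 < O.card)
    exact ⟨⟨e, he⟩⟩
  obtain ⟨x₀⟩ := hOne
  -- transitive
  have htrans : ∀ x y : O, ∃ a : A, a • x = y := by
    intro x y
    let T : Finset O := Finset.univ.filter fun z => ∃ a : A, a • x = z
    have hx : x ∈ T := Finset.mem_filter.2 ⟨Finset.mem_univ _, 1, one_smul A x⟩
    have himg : ∀ a : A, T.image (a • ·) = T := by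
      intro a
      refine Finset.eq_of_subset_of_card_le ?_ (Finset.card_image_of_injective _ (MulAction.injective a)).ge
      intro z hz
      obtain ⟨w, hw, rfl⟩ := Finset.mem_image.1 hz
      obtain ⟨b, rfl⟩ := (Finset.mem_filter.1 hw).2
      exact Finset.mem_filter.2 ⟨Finset.mem_univ _, a * b, mul_smul a b x⟩
    set s := ∑ z ∈ T, (z : Module.End (ZMod p) V) with hs
    have hidem : s * s = s := by
      rw [hs, Finset.sum_mul]
      exact Finset.sum_congr rfl fun e he => by rw [hsel, if_pos he]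
    have hs0 : s ≠ 0 := fun h => by
      have := hsum_inj T ∅ (by rw [← hs, h, Finset.sum_empty])
      simp [this] at hx
    have hcomm : ∀ a : A, lin p a * s = s * lin p a := by
      intro a
      have h := hconj_sum a T
      rw [himg, ← hs] at h
      conv_rhs => rw [← h]
      rw [mul_assoc _ (lin p a⁻¹), lin_inv_mul, mul_one]
    have h1 := idem_eq_one p hirr hidem hs0 hcomm
    have hT : T = Finset.univ := hsum_inj _ _ (by rw [← hs, h1, hsum])
    exact (Finset.mem_filter.1 (hT ▸ Finset.mem_univ y : y ∈ T)).2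
  -- the group on the parts
  let φ := MulAction.toPermHom A O
  let P := φ.range
  have hPsmul : ∀ (a : A) (e : O), ((⟨φ a, a, rfl⟩ : P) • e) = a • e := fun _ _ => rfl
  haveI : Nontrivial O := Fintype.one_lt_card_iff_nontrivial.1 (by rw [Fintype.card_coe]; exact hO2)
  have hprim : MulAction.IsPreprimitive P O := by
    haveI : MulAction.IsPretransitive P O := ⟨fun x y => by
      obtain ⟨a, ha⟩ := htrans x y
      exact ⟨⟨φ a, a, rfl⟩, ha⟩⟩
    refine ⟨fun {B} hB => ?_⟩
    by_contra hBt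
    simp only [MulAction.IsTrivialBlock, not_or, Set.not_subsingleton_iff] at hBt
    obtain ⟨hB2, hBu⟩ := hBt
    let blk : A → Finset O := fun a => B.toFinset.image (a • ·)
    let 𝓑 : Finset (Finset O) := Finset.univ.filter fun T => ∃ a, blk a = T
    have hblk : ∀ a : A, ((blk a : Finset O) : Set O) = (⟨φ a, a, rfl⟩ : P) • B := by
      intro a
      simp only [blk, Finset.coe_image, Set.coe_toFinset]
      rfl
    have hdisj : ∀ T₁ ∈ 𝓑, ∀ T₂ ∈ 𝓑, T₁ ≠ T₂ → Disjoint T₁ T₂ := by
      intro T₁ h₁ T₂ h₂ hne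
      obtain ⟨a, rfl⟩ := (Finset.mem_filter.1 h₁).2
      obtain ⟨b, rfl⟩ := (Finset.mem_filter.1 h₂).2
      rw [← Finset.disjoint_coe, hblk, hblk]
      exact hB (fun h => hne (Finset.coe_injective (by rw [hblk, hblk, h])))
    have hcardblk : ∀ T ∈ 𝓑, T.card = B.toFinset.card := by
      intro T hT
      obtain ⟨a, rfl⟩ := (Finset.mem_filter.1 hT).2
      exact Finset.card_image_of_injective _ (MulAction.injective a)
    have hB2' : 2 ≤ B.toFinset.card := Finset.one_lt_card_iff_nontrivial.2 (by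
      obtain ⟨x, hx, y, hy, hxy⟩ := hB2
      exact ⟨x, Set.mem_toFinset.2 hx, y, Set.mem_toFinset.2 hy, hxy⟩)
    have hcover : 𝓑.biUnion id = Finset.univ := by
      refine Finset.eq_univ_iff_forall.2 fun y => ?_
      obtain ⟨x, hx⟩ := hB2.nonempty
      obtain ⟨a, rfl⟩ := htrans x y
      exact Finset.mem_biUnion.2 ⟨blk a, Finset.mem_filter.2 ⟨Finset.mem_univ _, a, rfl⟩,
        Finset.mem_image.2 ⟨x, Set.mem_toFinset.2 hx, rfl⟩⟩
    have htot : O.card = 𝓑.card * B.toFinset.card := by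
      rw [← Fintype.card_coe, ← Finset.card_univ, ← hcover, Finset.card_biUnion (t := id) (fun T₁ h₁ T₂ h₂ h => hdisj T₁ h₁ T₂ h₂ h),
        ← Finset.sum_const_nat (m := B.toFinset.card) hcardblk]
      rfl
    have h𝓑2 : 1 < 𝓑.card := by
      by_contra hle
      refine hBu (Set.eq_univ_iff_forall.2 fun y => ?_)
      have hy : y ∈ 𝓑.biUnion id := hcover ▸ Finset.mem_univ y
      obtain ⟨T, hT, hyT⟩ := Finset.mem_biUnion.1 hy
      have h1 : T = blk 1 :=
        Finset.card_le_one.1 (by omega) T hT _ (Finset.mem_filter.2 ⟨Finset.mem_univ _, 1, rfl⟩)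
      rw [h1] at hyT
      obtain ⟨x, hx, hxy⟩ := Finset.mem_image.1 (show y ∈ blk 1 from hyT)
      rw [one_smul] at hxy
      exact hxy ▸ Set.mem_toFinset.1 hx
    let bs : Finset O → Module.End (ZMod p) V := fun T => ∑ x ∈ T, (x : Module.End (ZMod p) V)
    have hcard : (𝓑.image bs).card = 𝓑.card := Finset.card_image_of_injective _ fun T₁ T₂ h => hsum_inj _ _ h
    have hsys : IsSys (A := A) p (𝓑.image bs) := by
      refine ⟨?_, ?_, ?_, ?_, ?_⟩
      · intro e he
        obtain ⟨T, hT, rfl⟩ := Finset.mem_image.1 he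
        intro h0
        have h1 := hsum_inj T ∅ (h0.trans Finset.sum_empty.symm)
        have h2 := hcardblk T hT
        rw [h1, Finset.card_empty] at h2
        omega
      · intro e he
        obtain ⟨T, -, rfl⟩ := Finset.mem_image.1 he
        simp only [bs, Finset.sum_mul]
        exact Finset.sum_congr rfl fun e he => by rw [hsel, if_pos he]
      · intro e he f hf hne
        obtain ⟨T₁, h₁, rfl⟩ := Finset.mem_image.1 he
        obtain ⟨T₂, h₂, rfl⟩ := Finset.mem_image.1 hf
        exact hmul_sum _ _ (hdisj T₁ h₁ T₂ h₂ fun h => hne (by rw [h]))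
      · rw [Finset.sum_image fun T₁ _ T₂ _ h => hsum_inj _ _ h, ← hsum, ← hcover,
          Finset.sum_biUnion (t := id) fun T₁ h₁ T₂ h₂ h => hdisj T₁ h₁ T₂ h₂ h]
        rfl
      · intro a e he
        obtain ⟨T, hT, rfl⟩ := Finset.mem_image.1 he
        obtain ⟨b, rfl⟩ := (Finset.mem_filter.1 hT).2
        refine Finset.mem_image.2 ⟨blk (a * b), Finset.mem_filter.2 ⟨Finset.mem_univ _, a * b, rfl⟩, ?_⟩
        simp only [bs]
        rw [hconj_sum]
        congr 1
        simp only [blk, Finset.image_image]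
        congr 1
        funext x
        exact mul_smul a b x
    have := hmin ⟨hsys, hcard ▸ h𝓑2⟩ (by
      show (𝓑.image bs).card ≤ O.card
      rw [hcard, htot]; exact Nat.le_mul_of_pos_right _ (by omega))
    rw [hcard, htot] at this
    have : 𝓑.card * 2 ≤ 𝓑.card * B.toFinset.card := Nat.mul_le_mul_left _ hB2'
    omega
  haveI : Group.IsSolvable P := Group.isSolvable_of_surjective φ.rangeRestrict_surjective
  obtain ⟨c, hc⟩ := exists_five (P := P) hprim
  -- the first part
  let U : AddSubgroup V := (x₀ : Module.End (ZMod p) V).toAddMonoidHom.range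
  let A₀ := MulAction.stabilizer A x₀
  have hUmem : ∀ u : V, u ∈ U ↔ (x₀ : Module.End (ZMod p) V) u = u :=
    fun u => ⟨fun ⟨w, hw⟩ => by
      have hw : (x₀ : Module.End (ZMod p) V) w = u := hw
      rw [← hw, ← Module.End.mul_apply, hO.idem _ x₀.2], fun h => ⟨u, h⟩⟩
  have hU : Inv A₀ U := by
    intro a u hu
    rw [hUmem] at hu ⊢
    have h := happ (a : A) x₀ u
    rw [show (a : A) • x₀ = x₀ from a.2, hu] at h
    exact h
  have hUlt : Nat.card U < Nat.card V := by
    refine lt_of_le_of_ne (Nat.le_of_dvd Nat.card_pos U.card_addSubgroup_dvd_card) fun h => ?_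
    obtain ⟨f, hf⟩ := exists_ne x₀
    have htop : U = ⊤ := AddSubgroup.eq_top_of_card_eq U h
    have h1 : (x₀ : Module.End (ZMod p) V) = 1 :=
      LinearMap.ext fun v => (hUmem v).1 (htop ▸ AddSubgroup.mem_top v)
    have := horth f x₀ hf
    rw [h1, mul_one] at this
    exact hO.ne _ f.2 this
  letI := subAction hU
  have hUirr : Irr A₀ U := by
    intro W hW
    refine or_iff_not_imp_left.2 fun hW0 => ?_
    obtain ⟨w, hwW, hw0⟩ := W.bot_or_exists_ne_zero.resolve_left hW0
    let T : AddSubgroup V :=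
      { carrier := {v | ∀ a : A, ∃ w' ∈ W, (x₀ : Module.End (ZMod p) V) (a • v) = (w' : V)}
        zero_mem' := fun a => ⟨0, W.zero_mem, by rw [smul_zero, map_zero]; rfl⟩
        add_mem' := fun {v v'} hv hv' a => by
          obtain ⟨w1, h1, e1⟩ := hv a
          obtain ⟨w2, h2, e2⟩ := hv' a
          exact ⟨w1 + w2, W.add_mem h1 h2, by rw [smul_add, map_add, e1, e2]; rfl⟩
        neg_mem' := fun {v} hv a => by
          obtain ⟨w1, h1, e1⟩ := hv a
          exact ⟨-w1, W.neg_mem h1, by rw [smul_neg, map_neg, e1]; rfl⟩ }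
    have hT : Inv A T := fun b v hv a => by
      obtain ⟨w', hw', e⟩ := hv (a * b)
      exact ⟨w', hw', by rw [← mul_smul]; exact e⟩
    have hwT : (w : V) ∈ T := by
      intro a
      by_cases ha : a • x₀ = x₀
      · refine ⟨(⟨a, ha⟩ : A₀) • w, hW ⟨a, ha⟩ w hwW, ?_⟩
        exact (hUmem _).1 (hU ⟨a, ha⟩ (w : V) w.2)
      · refine ⟨0, W.zero_mem, ?_⟩
        have h := happ a x₀ (w : V)
        rw [(hUmem _).1 w.2] at h
        rw [← h, ← Module.End.mul_apply, horth x₀ (a • x₀) (Ne.symm ha)]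
        rfl
    rcases hirr T hT with hb | ht
    · exact absurd (Subtype.ext (AddSubgroup.mem_bot.1 (hb ▸ hwT))) hw0
    · refine eq_top_iff.2 fun u _ => ?_
      obtain ⟨w', hw', e⟩ := (ht ▸ AddSubgroup.mem_top (u : V) : (u : V) ∈ T) 1
      rw [one_smul, (hUmem _).1 u.2] at e
      rwa [Subtype.ext e]
  haveI : Nontrivial U := by
    by_contra hc
    refine hO.ne _ x₀.2 (LinearMap.ext fun v => ?_)
    haveI := not_nontrivial_iff_subsingleton.1 hc
    exact congrArg Subtype.val
      (Subsingleton.elim (⟨(x₀ : Module.End (ZMod p) V) v, ⟨v, rfl⟩⟩ : U) 0)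
  obtain ⟨q₀, hq₀⟩ := hIH A₀ U inferInstance hUirr.cr hUlt
  obtain ⟨Q, hQreg, hQne⟩ := five_classes p hq₀
  choose t ht using fun e : O => htrans x₀ e
  -- the three vectors
  let q₁ : O → U := fun e => (Q (c e)).1
  let q₂ : O → U := fun e => (Q (c e)).2.1
  let q₃ : O → U := fun e => (Q (c e)).2.2
  have hcomp : ∀ (q : O → U) (e : O),
      (e : Module.End (ZMod p) V) (∑ f, t f • (q f : V)) = t e • (q e : V) := by
    intro q e
    have hself : ∀ f : O, (f : Module.End (ZMod p) V) (t f • (q f : V)) = t f • (q f : V) := by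
      intro f
      have h := happ (t f) x₀ (q f : V)
      rw [ht f, (hUmem _).1 (q f).2] at h
      exact h
    rw [map_sum, Finset.sum_eq_single e ?_ (fun h => absurd (Finset.mem_univ e) h), hself]
    intro f _ hf
    rw [← hself f, ← Module.End.mul_apply, horth e f (Ne.symm hf)]
    rfl
  refine ⟨(∑ f, t f • (q₁ f : V), ∑ f, t f • (q₂ f : V), ∑ f, t f • (q₃ f : V)), fun a h1 h2 h3 => ?_⟩
  have hmove : ∀ (q : O → U), a • ∑ f, t f • (q f : V) = ∑ f, t f • (q f : V) → ∀ e : O,
      t (a • e) • (q (a • e) : V) = a • t e • (q e : V) := by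
    intro q hq e
    have h := happ a e (∑ f, t f • (q f : V))
    rwa [hq, hcomp, hcomp] at h
  have hg : ∀ e : O, (t (a • e))⁻¹ * a * t e ∈ A₀ := fun e => by
    show ((t (a • e))⁻¹ * a * t e) • x₀ = x₀
    rw [mul_smul, mul_smul, ht, inv_smul_eq_iff, ht]
  have hgq : ∀ (q : O → U), a • ∑ f, t f • (q f : V) = ∑ f, t f • (q f : V) → ∀ e : O,
      (⟨_, hg e⟩ : A₀) • q e = q (a • e) := by
    intro q hq e
    refine Subtype.ext ?_
    show ((t (a • e))⁻¹ * a * t e) • (q e : V) = _
    rw [mul_smul, mul_smul, ← hmove q hq e, inv_smul_smul]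
  have hcol : ∀ e : O, c e = c (a • e) := fun e =>
    hQne _ _ _ (hgq q₁ h1 e) (hgq q₂ h2 e) (hgq q₃ h3 e)
  have hπ : (⟨φ a, a, rfl⟩ : P) = 1 := hc _ fun e => by rw [hPsmul]; exact (hcol e).symm
  have hfix : ∀ e : O, a • e = e := fun e => by rw [← hPsmul, hπ, one_smul]
  intro v
  have hv : v = ∑ e : O, (e : Module.End (ZMod p) V) v := by
    conv_lhs => rw [← Module.End.one_apply (R := ZMod p) v, ← hsum]
    exact LinearMap.sum_apply _ _ _
  rw [hv, Finset.smul_sum]
  refine Finset.sum_congr rfl fun e _ => ?_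
  have hall : ∀ u : U, (⟨_, hg e⟩ : A₀) • u = u :=
    hQreg (c e) _ ((hgq q₁ h1 e).trans (congrArg q₁ (hfix e))) ((hgq q₂ h2 e).trans (congrArg q₂ (hfix e)))
      ((hgq q₃ h3 e).trans (congrArg q₃ (hfix e)))
  have hmem : (t e)⁻¹ • (e : Module.End (ZMod p) V) v ∈ U := by
    rw [hUmem]
    have h := happ (t e)⁻¹ e ((e : Module.End (ZMod p) V) v)
    rw [show (t e)⁻¹ • e = x₀ from inv_smul_eq_iff.2 (ht e).symm, ← Module.End.mul_apply (e : Module.End (ZMod p) V),
      hO.idem _ e.2] at h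
    exact h
  have hh : ((t (a • e))⁻¹ * a * t e) • (t e)⁻¹ • (e : Module.End (ZMod p) V) v =
      (t e)⁻¹ • (e : Module.End (ZMod p) V) v := congrArg Subtype.val (hall ⟨_, hmem⟩)
  rw [hfix e, mul_smul, mul_smul, smul_inv_smul] at hh
  exact smul_left_cancel _ hh


/-- An irreducible module is elementary, and both cases apply. -/
theorem base3_of_irr {A : Type} [Group A] [Finite A] {V : Type} [AddCommGroup V] [Finite V] [DistribMulAction A V]
    [FaithfulSMul A V] [Nontrivial V] [Group.IsSolvable A] (hirr : Irr A V)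
    (hIH : Below3 (Nat.card V)) : Base3 A V := by
  obtain ⟨p, hp, hpV⟩ := Nat.exists_prime_and_dvd (Finite.one_lt_card (α := V)).ne'
  haveI := Fact.mk hp
  have hexp : ∀ v : V, p • v = 0 := by
    let T : AddSubgroup V := (nsmulAddMonoidHom p : V →+ V).ker
    have hT : Inv A T := fun a v (hv : p • v = 0) => show p • (a • v) = 0 by
      rw [show p • (a • v) = a • (p • v) from ((DistribSMul.toAddMonoidHom V a).map_nsmul p v).symm, hv, smul_zero]
    obtain ⟨x, hx⟩ := exists_prime_addOrderOf_dvd_card' (G := V) p hpV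
    rcases hirr T hT with hb | ht
    · exfalso
      have : x ∈ T := by show p • x = 0; rw [← hx]; exact addOrderOf_nsmul_eq_zero x
      rw [hb, AddSubgroup.mem_bot] at this
      rw [this, addOrderOf_zero] at hx
      exact hp.one_lt.ne hx
    · exact fun v => (ht ▸ AddSubgroup.mem_top v : v ∈ T)
  letI : Module (ZMod p) V := AddCommGroup.zmodModule hexp
  by_cases hprim : Prim A V p
  · obtain ⟨x, y, z, -, h⟩ := base3_primitive p hirr hprim
    exact ⟨(x, y, z), fun a h1 h2 h3 v => by rw [h a h1 h2 h3, one_smul]⟩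
  · exact base_of_imprimitive p hirr hIH hprim

theorem below3 : ∀ N : ℕ, Below3 N := by
  intro N
  induction N with
  | zero => intro A W _ _ _ _ _ _ _ h; exact absurd h (Nat.not_lt_zero _)
  | succ N ih =>
    intro A W _ _ _ _ _ hsolv hcr hlt
    rcases Nat.lt_or_ge (Nat.card W) N with h | h
    · exact ih A W hsolv hcr h
    obtain rfl : N = Nat.card W := by omega
    rcases subsingleton_or_nontrivial W with hW | hW
    · exact ⟨(0, 0, 0), fun a _ _ _ x => Subsingleton.elim _ _⟩
    by_cases hirr : Irr A W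
    · haveI : Group.IsSolvable (Img A W) :=
        Group.isSolvable_of_surjective (MulAction.toPermHom A W).rangeRestrict_surjective
      obtain ⟨q, hq⟩ := base3_of_irr (A := Img A W) (OddBaseTwo.Img.irr_iff.2 hirr) ih
      exact ⟨q, fun a h1 h2 h3 => hq (Img.of a) h1 h2 h3⟩
    simp only [Irr, not_forall, not_or] at hirr
    obtain ⟨U, hU, hU0, hU1⟩ := hirr
    obtain ⟨T, hT, hd, hs⟩ := hcr U hU
    have hT1 : T ≠ ⊤ := fun e => hU0 (by rw [← hd, e, inf_top_eq])
    have hlt' : ∀ S : AddSubgroup W, S ≠ ⊤ → Nat.card S < Nat.card W := fun S hS =>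
      lt_of_le_of_ne (Nat.le_of_dvd Nat.card_pos S.card_addSubgroup_dvd_card)
        fun e => hS (AddSubgroup.eq_top_of_card_eq S e)
    have hsub : ∀ S : AddSubgroup W, Inv A S → S ≠ ⊤ → ∃ u v w : S,
        ∀ a : A, a • (u : W) = u → a • (v : W) = v → a • (w : W) = w → ∀ x : S, a • (x : W) = x := by
      intro S hS hS1
      letI := subAction hS
      obtain ⟨q, hq⟩ := ih A S hsolv (hcr.sub hS) (hlt' S hS1)
      exact ⟨q.1, q.2.1, q.2.2, fun a e1 e2 e3 x =>
        congrArg Subtype.val (hq a (Subtype.ext e1) (Subtype.ext e2) (Subtype.ext e3) x)⟩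
    obtain ⟨u1, v1, w1, h1⟩ := hsub U hU hU1
    obtain ⟨u2, v2, w2, h2⟩ := hsub T hT hT1
    refine ⟨((u1 : W) + u2, (v1 : W) + v2, (w1 : W) + w2), fun a e1 e2 e3 x => ?_⟩
    have hsplit : ∀ (u : U) (t : T), a • ((u : W) + t) = u + t → a • (u : W) = u ∧ a • (t : W) = t := by
      intro u t he
      rw [smul_add] at he
      have hm : a • (u : W) - u ∈ U ⊓ T := by
        refine AddSubgroup.mem_inf.2 ⟨sub_mem (hU a u u.2) u.2, ?_⟩
        rw [show a • (u : W) - u = (t : W) - a • (t : W) by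
          rw [sub_eq_sub_iff_add_eq_add]; exact he.trans (add_comm _ _)]
        exact sub_mem t.2 (hT a t t.2)
      rw [hd, AddSubgroup.mem_bot, sub_eq_zero] at hm
      exact ⟨hm, by rw [hm, add_right_inj] at he; exact he⟩
    obtain ⟨a1, a2⟩ := hsplit u1 u2 e1
    obtain ⟨b1, b2⟩ := hsplit v1 v2 e2
    obtain ⟨c1, c2⟩ := hsplit w1 w2 e3
    obtain ⟨u, hu, t, ht, rfl⟩ := AddSubgroup.mem_sup.1 (hs ▸ AddSubgroup.mem_top x : x ∈ U ⊔ T)
    rw [smul_add, h1 a a1 b1 c1 ⟨u, hu⟩, h2 a a2 b2 c2 ⟨t, ht⟩]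

/-- Seress: three vectors with trivial common stabiliser. -/
theorem exists_three_vectors {A V : Type*} [Group A] [Finite A] [AddCommGroup V] [Finite V] [DistribMulAction A V]
    [FaithfulSMul A V] [Group.IsSolvable A] (hcr : CR A V) :
    ∃ u v w : V, ∀ a : A, a • u = u → a • v = v → a • w = w → a = 1 := by
  let ev : V ≃ OddBaseTwo.Pts (Nat.card V) := Finite.equivFin V
  let ea : A ≃ OddBaseTwo.Pts (Nat.card A) := Finite.equivFin A
  letI : AddCommGroup (OddBaseTwo.Pts (Nat.card V)) := ev.symm.addCommGroup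
  letI : Group (OddBaseTwo.Pts (Nat.card A)) := ea.symm.group
  let φ : V ≃+ OddBaseTwo.Pts (Nat.card V) := (ev.symm.addEquiv).symm
  let ψ : A ≃* OddBaseTwo.Pts (Nat.card A) := (ea.symm.mulEquiv).symm
  letI : DistribMulAction (OddBaseTwo.Pts (Nat.card A)) (OddBaseTwo.Pts (Nat.card V)) :=
    { smul := fun a x => φ (ψ.symm a • φ.symm x)
      one_smul := fun x => show φ (ψ.symm 1 • φ.symm x) = x by
        rw [map_one, one_smul, AddEquiv.apply_symm_apply]
      mul_smul := fun a b x => show φ (ψ.symm (a * b) • φ.symm x) =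
          φ (ψ.symm a • φ.symm (φ (ψ.symm b • φ.symm x))) by
        rw [map_mul, mul_smul, AddEquiv.symm_apply_apply]
      smul_zero := fun a => show φ (ψ.symm a • φ.symm 0) = 0 by rw [map_zero, smul_zero, map_zero]
      smul_add := fun a x y => show φ (ψ.symm a • φ.symm (x + y)) = _ by rw [map_add, smul_add, map_add]; rfl }
  have hsmul : ∀ (a : A) (x : V), ψ a • φ x = φ (a • x) := fun a x => by
    show φ (ψ.symm (ψ a) • φ.symm (φ x)) = _
    rw [MulEquiv.symm_apply_apply, AddEquiv.symm_apply_apply]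
  have hcr' : CR (OddBaseTwo.Pts (Nat.card A)) (OddBaseTwo.Pts (Nat.card V)) := by
    intro U hU
    obtain ⟨W, hW, hd, hs⟩ := hcr (U.comap φ.toAddMonoidHom) fun a v hv => by
      show φ (a • v) ∈ U
      rw [← hsmul]; exact hU _ _ hv
    refine ⟨W.comap φ.symm.toAddMonoidHom, fun a x hx => ?_, ?_, ?_⟩
    · show φ.symm (φ (ψ.symm a • φ.symm x)) ∈ W
      rw [AddEquiv.symm_apply_apply]; exact hW _ _ hx
    · refine (AddSubgroup.eq_bot_iff_forall _).2 fun x hx => ?_
      have : φ.symm x ∈ U.comap φ.toAddMonoidHom ⊓ W := ⟨show φ (φ.symm x) ∈ U by simpa using hx.1, hx.2⟩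
      rw [hd, AddSubgroup.mem_bot] at this
      simpa using congrArg φ this
    · refine eq_top_iff.2 fun x _ => ?_
      obtain ⟨u, hu, w, hw, he⟩ := AddSubgroup.mem_sup.1
        (hs ▸ AddSubgroup.mem_top (φ.symm x) : φ.symm x ∈ U.comap φ.toAddMonoidHom ⊔ W)
      refine AddSubgroup.mem_sup.2 ⟨φ u, hu, φ w, show φ.symm (φ w) ∈ W by simpa using hw, ?_⟩
      rw [← map_add, he, AddEquiv.apply_symm_apply]
  haveI : Group.IsSolvable (OddBaseTwo.Pts (Nat.card A)) :=
    Group.isSolvable_of_surjective (f := ψ.toMonoidHom) ψ.surjective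
  obtain ⟨⟨u, v, w⟩, h⟩ := below3 (Nat.card (OddBaseTwo.Pts (Nat.card V)) + 1) _ _ inferInstance hcr' (Nat.lt_succ_self _)
  refine ⟨φ.symm u, φ.symm v, φ.symm w, fun a h0 h1 h2 => OddBaseTwo.eq_one_of_smul_eq (V := V) fun x => φ.injective ?_⟩
  rw [← hsmul]
  exact h _ (show φ (ψ.symm (ψ a) • φ.symm u) = u by
      rw [MulEquiv.symm_apply_apply, h0, AddEquiv.apply_symm_apply])
    (show φ (ψ.symm (ψ a) • φ.symm v) = v by
      rw [MulEquiv.symm_apply_apply, h1, AddEquiv.apply_symm_apply])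
    (show φ (ψ.symm (ψ a) • φ.symm w) = w by
      rw [MulEquiv.symm_apply_apply, h2, AddEquiv.apply_symm_apply]) (φ x)

end Cfsg.Agent.BaseThree
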